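import Cfsg.Agent.Twisted.Groups.D4Inst
import Cfsg.Agent.Twisted.Fixed
import Cfsg.Agent.D4Triality.TorusFrame

/-!
The root elements of `³D₄(q)` in the parabolic with Heisenberg radical and their commutators (helper56).
-/

set_option autoImplicit false
set_option maxRecDepth 4000

namespace Cfsg.Agent.CrossChar56.D4Deg

open Cfsg.Agent.ChevGroup Cfsg.Agent.ChevIsogeny Cfsg.Lie
open Cfsg.Agent.Twisted (genG tor prodX)
open Cfsg.Agent.Twisted.TypeD4 (MT PP fd frame₀ cvec tri)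

/-- The relations of `D₄`. -/
noncomputable abbrev KR (F : Type*) [Field F] : Rels chevD4 F :=
  relsOfCommGood ChevCore.commGoodD4 F

/-- A root element. -/
noncomputable abbrev X {F : Type*} [Field F] (r : Fin MT.tab.n) (t : F) : ↥(chevD4.group F) :=
  (MT.rel (KR F)).x r t

variable {F : Type*} [Field F]

/-- The element of the orbit of `α₂ + αᵢ`. -/
noncomputable def xb (q : ℕ) (b : F) : ↥(chevD4.group F) :=
  X 19 (-b) * X 16 (b ^ q) * X 15 (b ^ q ^ 2)

/-- The element of the orbit of `α₂ + αᵢ + αⱼ`. -/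
noncomputable def xc (q : ℕ) (c : F) : ↥(chevD4.group F) :=
  X 17 c * X 20 (-c ^ q) * X 21 (-c ^ q ^ 2)

/-- The element of the orbit of `αᵢ`. -/
noncomputable def xu (q : ℕ) (t : F) : ↥(chevD4.group F) :=
  X 18 t * X 13 (t ^ q) * X 12 (t ^ q ^ 2)

/-- The element of the orbit of `-αᵢ`. -/
noncomputable def xv (q : ℕ) (t : F) : ↥(chevD4.group F) :=
  X 5 t * X 10 (t ^ q) * X 11 (t ^ q ^ 2)

/-- The trace to the field with `q` elements. -/
def Tr (q : ℕ) (x : F) : F := x + x ^ q + x ^ q ^ 2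

/-- The norm to the field with `q` elements. -/
def Nm (q : ℕ) (x : F) : F := x * x ^ q * x ^ q ^ 2

variable [Fintype F] {q : ℕ} (hq : IsPrimePow q) (hK : Fintype.card F = q ^ 3)

/-- The twisted group. -/
noncomputable abbrev G₁ (F : Type*) [Field F] (q : ℕ) : Subgroup ↥(chevD4.group F) :=
  genG MT (KR F) (d4Words F q)

include hq hK

theorem add_q (a b : F) : (a + b) ^ q = a ^ q + b ^ q := (Twisted.qpow_hom hq hK).1 a b

theorem add_q2 (a b : F) : (a + b) ^ q ^ 2 = a ^ q ^ 2 + b ^ q ^ 2 := by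
  rw [pow_two, pow_mul, pow_mul, pow_mul, add_q hq hK, add_q hq hK]

theorem neg_q (a : F) : (-a) ^ q = -a ^ q := by
  refine eq_neg_of_add_eq_zero_left ?_
  rw [← add_q hq hK, neg_add_cancel, zero_pow hq.pos.ne']

theorem neg_q2 (a : F) : (-a) ^ q ^ 2 = -a ^ q ^ 2 := by
  rw [pow_two, pow_mul, pow_mul, neg_q hq hK, neg_q hq hK]

theorem q3 (a : F) : a ^ q ^ 3 = a := (Twisted.qpow_hom hq hK).2.2 a

theorem q2q (a : F) : (a ^ q ^ 2) ^ q = a := by rw [← pow_mul, ← pow_succ]; exact q3 hq hK a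

theorem qq (a : F) : (a ^ q) ^ q = a ^ q ^ 2 := by rw [← pow_mul, pow_two]

omit hK in
theorem fix_q2 {a : F} (h : a ^ q = a) : a ^ q ^ 2 = a := by rw [pow_two, pow_mul, h, h]

theorem comm_x {r s : Fin MT.tab.n} (h : PP.commuteB chevD4 r.val s.val = true) (t u : F) :
    Commute (X r t) (X s u) := (frame₀ hq hK).commute_x h t u

theorem conj1 (r s a : Fin MT.tab.n) (c : ℤ)
    (h : chevD4.commTerms r.val s.val = [(a.val, c, 1, 1)]) (h1 : s.val ≠ r.val)
    (h2 : s.val ≠ chevD4.neg r.val) (t u : F) :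
    X r t * X s u * (X r t)⁻¹ = X s u * X a ((c : F) * t * u) := by
  have h3 := IsoHyp.conj_eq (T := MT) (K := KR F) (frame₀ hq hK).iso.comm (MT.lt r) (MT.lt s) h1 h2 t u
  simp only [IsoHyp.xN_val, h, List.map_cons, List.map_nil, List.prod_cons, List.prod_nil, mul_one,
    IsoHyp.val, pow_one] at h3
  rw [← (MT.rel (KR F)).x_neg]
  exact h3

theorem conj0 (r s : Fin MT.tab.n) (h : PP.commuteB chevD4 r.val s.val = true) (t u : F) :
    X r t * X s u * (X r t)⁻¹ = X s u := by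
  rw [(comm_x hq hK h t u).eq, mul_inv_cancel_right]

theorem mem_of_fixed {g : ↥(chevD4.group F)} (h : (frame₀ hq hK).σ g = g) : g ∈ G₁ F q :=
  (Twisted.TypeD4.gens (frame₀ hq hK) hq hK).mem_of_fixed Twisted.TypeD4.long_ok (by decide +kernel)
    (by decide +kernel) h

theorem sigma_x (r s : Fin MT.tab.n) (e : ℤ) (h : fd.O.rho r = s) (h' : PP.ef r.val = e) (t : F) :
    (frame₀ hq hK).σ (X r t) = X s ((e : F) * t ^ q) := by
  rw [(frame₀ hq hK).σ_x, D4Triality.Torus.lam_all, h, h']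

theorem x_fixed (r : Fin MT.tab.n) (h : fd.O.rho r = r) (h' : PP.ef r.val = 1) {t : F}
    (ht : t ^ q = t) : X r t ∈ G₁ F q := by
  refine mem_of_fixed hq hK ?_
  rw [sigma_x hq hK r r 1 h h', ht, Int.cast_one, one_mul]

theorem x_fixed' (r : Fin MT.tab.n) (h : fd.O.rho r = r) (h' : PP.ef r.val = 1) {t : F}
    (ht : X r t ∈ G₁ F q) : t ^ q = t := by
  have := (Twisted.TypeD4.gens (frame₀ hq hK) hq hK).fixed _ ht
  rw [sigma_x hq hK r r 1 h h', Int.cast_one, one_mul] at this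
  exact (frame₀ hq hK).iso.x_injective _ this

theorem xb_mem (b : F) : xb q b ∈ G₁ F q := by
  refine mem_of_fixed hq hK ?_
  rw [xb, map_mul, map_mul, sigma_x hq hK 19 16 (-1) (by decide +kernel) (by decide +kernel),
    sigma_x hq hK 16 15 1 (by decide +kernel) (by decide +kernel),
    sigma_x hq hK 15 19 (-1) (by decide +kernel) (by decide +kernel)]
  simp only [Int.cast_neg, Int.cast_one, neg_one_mul, one_mul, neg_q hq hK, neg_neg, qq hq hK,
    q2q hq hK]
  rw [← ((comm_x hq hK (r := 19) (s := 16) (by decide +kernel) (-b) (b ^ q)).mul_right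
    (comm_x hq hK (r := 19) (s := 15) (by decide +kernel) (-b) (b ^ q ^ 2))).eq, mul_assoc]

theorem xc_mem (c : F) : xc q c ∈ G₁ F q := by
  refine mem_of_fixed hq hK ?_
  rw [xc, map_mul, map_mul, sigma_x hq hK 17 20 (-1) (by decide +kernel) (by decide +kernel),
    sigma_x hq hK 20 21 1 (by decide +kernel) (by decide +kernel),
    sigma_x hq hK 21 17 (-1) (by decide +kernel) (by decide +kernel)]
  simp only [Int.cast_neg, Int.cast_one, neg_one_mul, one_mul, neg_q hq hK, neg_neg, qq hq hK,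
    q2q hq hK]
  rw [((comm_x hq hK (r := 20) (s := 17) (by decide +kernel) _ c).mul_left
    (comm_x hq hK (r := 21) (s := 17) (by decide +kernel) _ c)).eq, ← mul_assoc]

theorem xu_mem (t : F) : xu q t ∈ G₁ F q := by
  have h := (Twisted.TypeD4.tri_mem (frame₀ hq hK) (q := q) t).1
  simpa [prodX, tri, xu, mul_assoc] using h

theorem xv_mem (t : F) : xv q t ∈ G₁ F q := by
  have h := (Twisted.TypeD4.tri_mem (frame₀ hq hK) (q := q) t).2
  simpa [prodX, tri, xv, mul_assoc] using h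

theorem three_add (r s w : Fin MT.tab.n) (h1 : PP.commuteB chevD4 r.val s.val = true)
    (h2 : PP.commuteB chevD4 r.val w.val = true) (h3 : PP.commuteB chevD4 s.val w.val = true)
    (a b c a' b' c' : F) :
    X r a * X s b * X w c * (X r a' * X s b' * X w c') = X r (a + a') * X s (b + b') * X w (c + c') := by
  simp only [X]
  rw [(MT.rel (KR F)).x_add, (MT.rel (KR F)).x_add, (MT.rel (KR F)).x_add]
  have e1 := (comm_x hq hK h2 a' c).eq
  have e2 := (comm_x hq hK h1 a' b).eq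
  have e3 := (comm_x hq hK h3 b' c).eq
  simp only [X] at e1 e2 e3
  calc _ = (MT.rel (KR F)).x r a * ((MT.rel (KR F)).x s b * (((MT.rel (KR F)).x w c *
        (MT.rel (KR F)).x r a') * ((MT.rel (KR F)).x s b' * (MT.rel (KR F)).x w c'))) := by group
    _ = (MT.rel (KR F)).x r a * (((MT.rel (KR F)).x s b * (MT.rel (KR F)).x r a') *
        (((MT.rel (KR F)).x w c * (MT.rel (KR F)).x s b') * (MT.rel (KR F)).x w c')) := by
      rw [← e1]; group
    _ = _ := by rw [← e2, ← e3]; group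

theorem xb_add (a b : F) : xb q (a + b) = xb q a * xb q b := by
  simp only [xb]
  rw [three_add hq hK 19 16 15 (by decide +kernel) (by decide +kernel) (by decide +kernel),
    neg_add, add_q hq hK, add_q2 hq hK]

theorem xc_add (a b : F) : xc q (a + b) = xc q a * xc q b := by
  simp only [xc]
  rw [three_add hq hK 17 20 21 (by decide +kernel) (by decide +kernel) (by decide +kernel),
    add_q hq hK, add_q2 hq hK, neg_add, neg_add]

theorem xu_add (a b : F) : xu q (a + b) = xu q a * xu q b := by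
  simp only [xu]
  rw [three_add hq hK 18 13 12 (by decide +kernel) (by decide +kernel) (by decide +kernel),
    add_q hq hK, add_q2 hq hK]

theorem xv_add (a b : F) : xv q (a + b) = xv q a * xv q b := by
  simp only [xv]
  rw [three_add hq hK 5 10 11 (by decide +kernel) (by decide +kernel) (by decide +kernel),
    add_q hq hK, add_q2 hq hK]

theorem comm_three {r s w : Fin MT.tab.n} {g : ↥(chevD4.group F)} {a b c : F}
    (h1 : Commute g (X r a)) (h2 : Commute g (X s b)) (h3 : Commute g (X w c)) :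
    Commute g (X r a * X s b * X w c) := (h1.mul_right h2).mul_right h3

theorem comm_xb (r : Fin MT.tab.n) (h1 : PP.commuteB chevD4 r.val 19 = true)
    (h2 : PP.commuteB chevD4 r.val 16 = true) (h3 : PP.commuteB chevD4 r.val 15 = true) (t b : F) :
    Commute (X r t) (xb q b) :=
  comm_three hq hK (comm_x hq hK (s := 19) h1 t _) (comm_x hq hK (s := 16) h2 t _)
    (comm_x hq hK (s := 15) h3 t _)

theorem comm_xc (r : Fin MT.tab.n) (h1 : PP.commuteB chevD4 r.val 17 = true)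
    (h2 : PP.commuteB chevD4 r.val 20 = true) (h3 : PP.commuteB chevD4 r.val 21 = true) (t c : F) :
    Commute (X r t) (xc q c) :=
  comm_three hq hK (comm_x hq hK (s := 17) h1 t _) (comm_x hq hK (s := 20) h2 t _)
    (comm_x hq hK (s := 21) h3 t _)

theorem comm_xu (r : Fin MT.tab.n) (h1 : PP.commuteB chevD4 r.val 18 = true)
    (h2 : PP.commuteB chevD4 r.val 13 = true) (h3 : PP.commuteB chevD4 r.val 12 = true) (t u : F) :
    Commute (X r t) (xu q u) :=
  comm_three hq hK (comm_x hq hK (s := 18) h1 t _) (comm_x hq hK (s := 13) h2 t _)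
    (comm_x hq hK (s := 12) h3 t _)

theorem comm_xv (r : Fin MT.tab.n) (h1 : PP.commuteB chevD4 r.val 5 = true)
    (h2 : PP.commuteB chevD4 r.val 10 = true) (h3 : PP.commuteB chevD4 r.val 11 = true) (t u : F) :
    Commute (X r t) (xv q u) :=
  comm_three hq hK (comm_x hq hK (s := 5) h1 t _) (comm_x hq hK (s := 10) h2 t _)
    (comm_x hq hK (s := 11) h3 t _)

/-- `e₂₂` on the root pair. -/
theorem conj22 (d a b : F) :
    X 22 d * (X 23 a * X 14 b) * (X 22 d)⁻¹ = X 23 (a - d * b) * X 14 b := by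
  have h1 := conj0 hq hK 22 23 (by decide +kernel) d a
  have h2 := conj1 hq hK 22 14 23 (-1) (by decide +kernel) (by decide) (by decide +kernel) d b
  calc _ = (X 22 d * X 23 a * (X 22 d)⁻¹) * (X 22 d * X 14 b * (X 22 d)⁻¹) := by group
    _ = X 23 a * (X 14 b * X 23 (-(d * b))) := by rw [h1, h2]; simp
    _ = X 23 a * (X 23 (-(d * b)) * X 14 b) := by
      rw [(comm_x hq hK (r := 14) (s := 23) (by decide +kernel) b _).eq]
    _ = _ := by rw [← mul_assoc, ← (MT.rel (KR F)).x_add, sub_eq_add_neg]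

/-- `e₁` on the root pair. -/
theorem conj1' (d a b : F) :
    X 1 d * (X 23 a * X 14 b) * (X 1 d)⁻¹ = X 23 a * X 14 (b - d * a) := by
  have h1 := conj0 hq hK 1 14 (by decide +kernel) d b
  have h2 := conj1 hq hK 1 23 14 (-1) (by decide +kernel) (by decide) (by decide +kernel) d a
  calc _ = (X 1 d * X 23 a * (X 1 d)⁻¹) * (X 1 d * X 14 b * (X 1 d)⁻¹) := by group
    _ = X 23 a * X 14 (-(d * a)) * X 14 b := by rw [h1, h2]; simp
    _ = _ := by rw [mul_assoc, ← (MT.rel (KR F)).x_add, neg_add_eq_sub]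

theorem conj_xc_x (c : F) (s : Fin MT.tab.n) (h1 : PP.commuteB chevD4 17 s.val = true)
    (h2 : PP.commuteB chevD4 20 s.val = true) (h3 : PP.commuteB chevD4 21 s.val = true) (t : F) :
    xc q c * X s t = X s t * xc q c :=
  ((comm_x hq hK (r := 17) h1 c t).mul_left (comm_x hq hK (r := 20) h2 _ t)).mul_left
    (comm_x hq hK (r := 21) h3 _ t)

/-- The pairing of the two orbits. -/
theorem conj_xc_xb (c b : F) :
    xc q c * xb q b * (xc q c)⁻¹ = xb q b * X 23 (-Tr q (b * c)) := by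
  have hT : ∀ (r : Fin MT.tab.n) (t u : F), PP.commuteB chevD4 r.val 23 = true →
      X r t * X 23 u = X 23 u * X r t := fun r t u h => (comm_x hq hK (r := r) (s := 23) h t u).eq
  have e19 : xc q c * X 19 (-b) * (xc q c)⁻¹ = X 19 (-b) * X 23 (-(b * c)) := by
    have hA := conj1 hq hK 17 19 23 1 (by decide +kernel) (by decide) (by decide +kernel) c (-b)
    have hB := ((comm_x hq hK (r := 20) (s := 19) (by decide +kernel) (-c ^ q) (-b)).mul_left
      (comm_x hq hK (r := 21) (s := 19) (by decide +kernel) (-c ^ q ^ 2) (-b))).eq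
    rw [xc, mul_assoc (X 17 c)]
    calc X 17 c * (X 20 (-c ^ q) * X 21 (-c ^ q ^ 2)) * X 19 (-b) *
          (X 17 c * (X 20 (-c ^ q) * X 21 (-c ^ q ^ 2)))⁻¹ =
        X 17 c * ((X 20 (-c ^ q) * X 21 (-c ^ q ^ 2)) * X 19 (-b)) *
          (X 20 (-c ^ q) * X 21 (-c ^ q ^ 2))⁻¹ * (X 17 c)⁻¹ := by group
      _ = X 17 c * X 19 (-b) * (X 17 c)⁻¹ := by rw [hB]; group
      _ = _ := by rw [hA]; congr 2; push_cast; ring
  have e16 : xc q c * X 16 (b ^ q) * (xc q c)⁻¹ = X 16 (b ^ q) * X 23 (-(b * c) ^ q) := by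
    have hA := conj1 hq hK 20 16 23 1 (by decide +kernel) (by decide) (by decide +kernel) (-c ^ q) (b ^ q)
    have hB := (comm_x hq hK (r := 21) (s := 16) (by decide +kernel) (-c ^ q ^ 2) (b ^ q)).eq
    rw [xc]
    calc X 17 c * X 20 (-c ^ q) * X 21 (-c ^ q ^ 2) * X 16 (b ^ q) *
          (X 17 c * X 20 (-c ^ q) * X 21 (-c ^ q ^ 2))⁻¹ =
        X 17 c * (X 20 (-c ^ q) * (X 21 (-c ^ q ^ 2) * X 16 (b ^ q)) *
          (X 21 (-c ^ q ^ 2))⁻¹ * (X 20 (-c ^ q))⁻¹) * (X 17 c)⁻¹ := by group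
      _ = X 17 c * (X 20 (-c ^ q) * X 16 (b ^ q) * (X 20 (-c ^ q))⁻¹) * (X 17 c)⁻¹ := by
        rw [hB]; group
      _ = X 17 c * (X 16 (b ^ q) * X 23 (-(b * c) ^ q)) * (X 17 c)⁻¹ := by
        rw [hA]; congr 3; rw [mul_pow]; push_cast; ring_nf
      _ = _ := by
        rw [((comm_x hq hK (r := 17) (s := 16) (by decide +kernel) c (b ^ q)).mul_right
          (comm_x hq hK (r := 17) (s := 23) (by decide +kernel) c _)).eq, mul_inv_cancel_right]
  have e15 : xc q c * X 15 (b ^ q ^ 2) * (xc q c)⁻¹ =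
      X 15 (b ^ q ^ 2) * X 23 (-(b * c) ^ q ^ 2) := by
    have hA := conj1 hq hK 21 15 23 1 (by decide +kernel) (by decide) (by decide +kernel)
      (-c ^ q ^ 2) (b ^ q ^ 2)
    rw [xc]
    calc X 17 c * X 20 (-c ^ q) * X 21 (-c ^ q ^ 2) * X 15 (b ^ q ^ 2) *
          (X 17 c * X 20 (-c ^ q) * X 21 (-c ^ q ^ 2))⁻¹ =
        (X 17 c * X 20 (-c ^ q)) * (X 21 (-c ^ q ^ 2) * X 15 (b ^ q ^ 2) * (X 21 (-c ^ q ^ 2))⁻¹) *
          (X 17 c * X 20 (-c ^ q))⁻¹ := by group
      _ = (X 17 c * X 20 (-c ^ q)) * (X 15 (b ^ q ^ 2) * X 23 (-(b * c) ^ q ^ 2)) *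
          (X 17 c * X 20 (-c ^ q))⁻¹ := by
        rw [hA]; congr 3; rw [mul_pow]; push_cast; ring_nf
      _ = _ := by
        rw [((((comm_x hq hK (r := 17) (s := 15) (by decide +kernel) c _).mul_left
          (comm_x hq hK (r := 20) (s := 15) (by decide +kernel) _ _)).mul_right
          ((comm_x hq hK (r := 17) (s := 23) (by decide +kernel) c _).mul_left
          (comm_x hq hK (r := 20) (s := 23) (by decide +kernel) _ _)))).eq, mul_inv_cancel_right]
  rw [xb]
  calc xc q c * (X 19 (-b) * X 16 (b ^ q) * X 15 (b ^ q ^ 2)) * (xc q c)⁻¹ =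
      (xc q c * X 19 (-b) * (xc q c)⁻¹) * (xc q c * X 16 (b ^ q) * (xc q c)⁻¹) *
        (xc q c * X 15 (b ^ q ^ 2) * (xc q c)⁻¹) := by group
    _ = X 19 (-b) * (X 23 (-(b * c)) * X 16 (b ^ q)) * (X 23 (-(b * c) ^ q) * X 15 (b ^ q ^ 2)) *
        X 23 (-(b * c) ^ q ^ 2) := by rw [e19, e16, e15]; group
    _ = X 19 (-b) * X 16 (b ^ q) * ((X 23 (-(b * c)) * X 23 (-(b * c) ^ q)) * X 15 (b ^ q ^ 2)) *
        X 23 (-(b * c) ^ q ^ 2) := by rw [← hT 16 _ _ (by decide +kernel)]; group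
    _ = _ := by
      rw [← (MT.rel (KR F)).x_add, ← hT 15 _ _ (by decide +kernel), ← mul_assoc, mul_assoc _ (X 23 _),
        ← (MT.rel (KR F)).x_add]
      congr 2
      simp only [Tr]; ring

/-- The orbit `αᵢ` moves `α₂` through the whole radical. -/
theorem conj_xu_x14 (t a : F) (ha : a ^ q = a) :
    xu q t * X 14 a * (xu q t)⁻¹ =
      X 14 a * xb q (t * a) * xc q (t ^ q * t ^ q ^ 2 * a) * X 22 (-(Nm q t * a)) *
        X 23 (-(Nm q t * a * a)) := by
  have h12 := conj1 hq hK 12 14 15 1 (by decide +kernel) (by decide) (by decide +kernel) (t ^ q ^ 2) a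
  have h13a := conj1 hq hK 13 14 16 1 (by decide +kernel) (by decide) (by decide +kernel) (t ^ q) a
  have h13b := fun w => conj1 hq hK 13 15 17 1 (by decide +kernel) (by decide) (by decide +kernel)
    (t ^ q) w
  have h18a := conj1 hq hK 18 14 19 (-1) (by decide +kernel) (by decide) (by decide +kernel) t a
  have h18b := fun w => conj1 hq hK 18 16 21 (-1) (by decide +kernel) (by decide) (by decide +kernel) t w
  have h18c := fun w => conj1 hq hK 18 15 20 (-1) (by decide +kernel) (by decide) (by decide +kernel) t w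
  have h18d := fun w => conj1 hq hK 18 17 22 (-1) (by decide +kernel) (by decide) (by decide +kernel) t w
  have h21 := fun v w => conj1 hq hK 21 15 23 1 (by decide +kernel) (by decide) (by decide +kernel) v w
  have step1 : xu q t * X 14 a * (xu q t)⁻¹ =
      X 14 a * X 19 (-(t * a)) * (X 16 (t ^ q * a) * X 21 (-(t * (t ^ q * a)))) *
        (X 15 (t ^ q ^ 2 * a) * X 20 (-(t * (t ^ q ^ 2 * a)))) *
        (X 17 (t ^ q * (t ^ q ^ 2 * a)) * X 22 (-(t * (t ^ q * (t ^ q ^ 2 * a))))) := by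
    rw [xu]
    calc _ = X 18 t * (X 13 (t ^ q) * (X 12 (t ^ q ^ 2) * X 14 a * (X 12 (t ^ q ^ 2))⁻¹) *
          (X 13 (t ^ q))⁻¹) * (X 18 t)⁻¹ := by group
      _ = X 18 t * ((X 13 (t ^ q) * X 14 a * (X 13 (t ^ q))⁻¹) *
          (X 13 (t ^ q) * X 15 (t ^ q ^ 2 * a) * (X 13 (t ^ q))⁻¹)) * (X 18 t)⁻¹ := by
        rw [h12, Int.cast_one, one_mul]; group
      _ = (X 18 t * X 14 a * (X 18 t)⁻¹) * (X 18 t * X 16 (t ^ q * a) * (X 18 t)⁻¹) *
          (X 18 t * X 15 (t ^ q ^ 2 * a) * (X 18 t)⁻¹) *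
          (X 18 t * X 17 (t ^ q * (t ^ q ^ 2 * a)) * (X 18 t)⁻¹) := by
        rw [h13a, h13b]; simp only [Int.cast_one, one_mul, mul_assoc]; group
      _ = _ := by
        rw [h18a, h18b, h18c, h18d]
        simp only [Int.cast_neg, Int.cast_one, neg_mul, one_mul, mul_assoc]
  set v := -(t * (t ^ q * a)) with hv
  set w := t ^ q ^ 2 * a with hw
  have hsw : X 21 v * X 15 w = X 15 w * (X 21 v * X 23 (v * w)) := by
    rw [(comm_x hq hK (r := 21) (s := 23) (by decide +kernel) v _).eq, ← mul_assoc,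
      ← mul_inv_eq_iff_eq_mul, h21, Int.cast_one, one_mul]
  have c23 : ∀ (r : Fin MT.tab.n) (x y : F), PP.commuteB chevD4 r.val 23 = true →
      X 23 y * X r x = X r x * X 23 y := fun r x y h => (comm_x hq hK (r := r) (s := 23) h x y).eq.symm
  have c2 : ∀ (r s : Fin MT.tab.n) (x y : F), PP.commuteB chevD4 r.val s.val = true →
      X r x * X s y = X s y * X r x := fun r s x y h => (comm_x hq hK h x y).eq
  rw [step1]
  set v20 := -(t * w) with hv20
  set v17 := t ^ q * w with hv17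
  set v22 := -(t * v17) with hv22
  set v19 := -(t * a) with hv19
  set v16 := t ^ q * a with hv16
  calc X 14 a * X 19 v19 * (X 16 v16 * X 21 v) * (X 15 w * X 20 v20) * (X 17 v17 * X 22 v22) =
      X 14 a * X 19 v19 * X 16 v16 * (X 21 v * X 15 w) * X 20 v20 * X 17 v17 * X 22 v22 := by group
    _ = X 14 a * X 19 v19 * X 16 v16 * X 15 w * X 21 v * (X 23 (v * w) * X 20 v20) * X 17 v17 *
        X 22 v22 := by rw [hsw]; group
    _ = X 14 a * X 19 v19 * X 16 v16 * X 15 w * X 21 v * X 20 v20 * (X 23 (v * w) * X 17 v17) *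
        X 22 v22 := by rw [c23 20 _ _ (by decide +kernel)]; group
    _ = X 14 a * X 19 v19 * X 16 v16 * X 15 w * ((X 21 v * X 20 v20) * X 17 v17) *
        (X 23 (v * w) * X 22 v22) := by rw [c23 17 _ _ (by decide +kernel)]; group
    _ = X 14 a * X 19 v19 * X 16 v16 * X 15 w * (X 17 v17 * X 20 v20 * X 21 v) *
        (X 22 v22 * X 23 (v * w)) := by
      rw [c23 22 _ _ (by decide +kernel), c2 21 20 _ _ (by decide +kernel),
        ((comm_x hq hK (r := 20) (s := 17) (by decide +kernel) v20 v17).mul_left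
          (comm_x hq hK (r := 21) (s := 17) (by decide +kernel) v v17)).eq]
      group
    _ = _ := by
      have e1 : (t * a) ^ q = t ^ q * a := by rw [mul_pow, ha]
      have e2 : (t * a) ^ q ^ 2 = t ^ q ^ 2 * a := by rw [mul_pow, fix_q2 hq ha]
      have e3 : (t ^ q * t ^ q ^ 2 * a) ^ q = t * (t ^ q ^ 2 * a) := by
        rw [mul_pow, mul_pow, qq hq hK, q2q hq hK, ha]; ring
      have e4 : (t ^ q * t ^ q ^ 2 * a) ^ q ^ 2 = t * (t ^ q * a) := by
        rw [mul_pow, mul_pow, fix_q2 hq ha, ← pow_mul, ← pow_mul, show q * q ^ 2 = q ^ 3 by ring,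
          show q ^ 2 * q ^ 2 = q ^ 3 * q by ring, pow_mul t (q ^ 3), q3 hq hK]
        ring
      simp only [xb, xc, e1, e2, e3, e4, hv, hw, hv20, hv17, hv22, hv19, hv16, Nm]
      simp only [← mul_assoc]
      ring_nf

theorem tor_mem {a b : Fˣ} (hb : b ^ q = b) : tor MT (KR F) (cvec q a b) ∈ G₁ F q :=
  Twisted.TypeD4.torus_mem (frame₀ hq hK) hq hK _
    (Twisted.TypeD4.sig_cvec (frame₀ hq hK) hq hK a b hb)

theorem chi_cvec (a b : Fˣ) (ha : a ^ q = a) (s : Fin MT.tab.n) :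
    Twisted.chi MT (cvec q a b) s =
      a ^ (chevD4.pairing ((MT.S).simple 0).val s.val + chevD4.pairing ((MT.S).simple 2).val s.val +
        chevD4.pairing ((MT.S).simple 3).val s.val) *
      b ^ chevD4.pairing ((MT.S).simple 1).val s.val := by
  have ha2 : a ^ q ^ 2 = a := by rw [pow_two, pow_mul, ha, ha]
  show ∏ i : Fin 4, (cvec q a b i) ^ chevD4.pairing ((MT.S).simple i).val s.val = _
  rw [Fin.prod_univ_four]
  obtain ⟨e0, e1, e2, e3⟩ := Twisted.TypeD4.cvec_val q a b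
  rw [show cvec q a b (0 : Fin 4) = a from e0, show cvec q a b (1 : Fin 4) = b from e1,
    show cvec q a b (2 : Fin 4) = a from e2.trans ha, show cvec q a b (3 : Fin 4) = a from e3.trans ha2,
    _root_.zpow_add, _root_.zpow_add]
  ac_rfl

theorem tor_conj_x (c : Fin MT.tab.l → Fˣ) (r : Fin MT.tab.n) (t : F) :
    tor MT (KR F) c * X r t * (tor MT (KR F) c)⁻¹ = X r ((Twisted.chi MT c r : F) * t) :=
  (frame₀ hq hK).tor_conj c r t

theorem tor_conj_three (c : Fin MT.tab.l → Fˣ) (r s w : Fin MT.tab.n) (x y z : F) :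
    tor MT (KR F) c * (X r x * X s y * X w z) * (tor MT (KR F) c)⁻¹ =
      X r ((Twisted.chi MT c r : F) * x) * X s ((Twisted.chi MT c s : F) * y) *
        X w ((Twisted.chi MT c w : F) * z) := by
  rw [← tor_conj_x hq hK, ← tor_conj_x hq hK, ← tor_conj_x hq hK]
  group

/-- The representative of the orbit reflection moves the pair `{θ, α₂}` to `{θ, α₂ + Σ αᵢ}`. -/
theorem exists_n : ∃ n ∈ Subgroup.closure (Set.range (xu q (F := F)) ∪ Set.range (xv q)),
    (∃ c : F, c ≠ 0 ∧ c ^ q = c ∧ ∀ a, n * X 14 a * n⁻¹ = X 22 (c * a)) ∧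
    (∃ c : F, c ≠ 0 ∧ c ^ q = c ∧ ∀ a, n * X 23 a * n⁻¹ = X 23 (c * a)) ∧
    ∃ c : F, c ≠ 0 ∧ c ^ q = c ∧ ∀ a, n * X 1 a * n⁻¹ = X 9 (c * a) := by
  set Z := frame₀ (F := F) hq hK
  have G := Twisted.TypeD4.gens Z hq hK
  refine ⟨Twisted.TypeD4.nj Z 1, ?_, ?_⟩
  · have e1 : Z.og 1 1 = X 12 1 * (X 13 1 * X 18 (1 : F)) := by
      simp [Twisted.Frame.og, show fd.orth 1 = [12, 13, 18] from rfl, X]
    have e2 : Z.ogn 1 (-1) = X 11 (-1) * (X 10 (-1) * X 5 (-1 : F)) := by
      rw [show Z.ogn 1 (-1) = X ((MT.S).neg 12) (-1) * (X ((MT.S).neg 13) (-1) *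
        (X ((MT.S).neg 18) (-1) * 1)) from rfl]
      rw [mul_one]
      rfl
    have c2 : ∀ (r s : Fin MT.tab.n) (x y : F), PP.commuteB chevD4 r.val s.val = true →
        X r x * X s y = X s y * X r x := fun r s x y h => (comm_x hq hK h x y).eq
    have f1 : Z.og 1 1 = xu q 1 := by
      rw [e1, xu, one_pow, one_pow, c2 13 18 _ _ (by decide +kernel),
        ((comm_x hq hK (r := 12) (s := 18) (by decide +kernel) (1 : F) 1).mul_right
          (comm_x hq hK (r := 12) (s := 13) (by decide +kernel) 1 1)).eq]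
    have f2 : Z.ogn 1 (-1) = xv q (-1) := by
      rw [e2, xv, neg_q hq hK, neg_q2 hq hK, one_pow, one_pow, c2 10 5 _ _ (by decide +kernel),
        ((comm_x hq hK (r := 11) (s := 5) (by decide +kernel) (-1 : F) (-1)).mul_right
          (comm_x hq hK (r := 11) (s := 10) (by decide +kernel) (-1) (-1))).eq]
    show Z.og 1 1 * Z.ogn 1 (-1) * Z.og 1 1 ∈ _
    rw [f1, f2]
    exact mul_mem (mul_mem (Subgroup.subset_closure (Or.inl ⟨_, rfl⟩))
      (Subgroup.subset_closure (Or.inr ⟨_, rfl⟩))) (Subgroup.subset_closure (Or.inl ⟨_, rfl⟩))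
  · have key : ∀ r s : Fin MT.tab.n, (MT.S).actw (fd.O.wd 1) r = s → fd.O.rho r = r →
        PP.ef r.val = 1 → fd.O.rho s = s → PP.ef s.val = 1 →
        ∃ c : F, c ≠ 0 ∧ c ^ q = c ∧
          ∀ a, Twisted.TypeD4.nj Z 1 * X r a * (Twisted.TypeD4.nj Z 1)⁻¹ = X s (c * a) := by
      intro r s h h1 h2 h3 h4
      obtain ⟨c, hc, hc'⟩ := (G.nj_coset 1).conj_x r
      refine ⟨c, hc, ?_, fun a => by rw [hc', h]⟩
      have hm : X s (c * 1) ∈ G₁ F q := by
        rw [← h, show X ((MT.S).actw (fd.O.wd 1) r) (c * 1) = Twisted.TypeD4.nj Z 1 * X r 1 *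
          (Twisted.TypeD4.nj Z 1)⁻¹ from (hc' 1).symm]
        exact mul_mem (mul_mem (G.nj_mem 1) (x_fixed hq hK r h1 h2 (one_pow q))) (inv_mem (G.nj_mem 1))
      have := x_fixed' hq hK s h3 h4 hm
      rwa [mul_one] at this
    exact ⟨key 14 22 (by decide +kernel) (by decide +kernel) (by decide +kernel) (by decide +kernel)
      (by decide +kernel), key 23 23 (by decide +kernel) (by decide +kernel) (by decide +kernel)
      (by decide +kernel) (by decide +kernel), key 1 9 (by decide +kernel) (by decide +kernel)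
      (by decide +kernel) (by decide +kernel) (by decide +kernel)⟩

end Cfsg.Agent.CrossChar56.D4Deg
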