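import Cfsg.Agent.CrossChar56.D4Deg.Small

/-!
The least degree of a nontrivial representation of `³D₄(q)` (helper56).

For a long root pair `A = Z × Z'` the `q² - 1` nontrivial characters have a common multiplicity `M ≥ q³`,
so the degree is `(q² - 1) M + N` with `N` the dimension of the fixed space of `A`; a two-variable
Chevalley-Warning argument gives `N > 0`, a small fixed space would be fixed by the whole group, and
the remaining value does not divide the group order.
-/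

set_option autoImplicit false

noncomputable section

namespace Cfsg.Agent.CrossChar56.D4Deg

open Cfsg.Lie Matrix
open Cfsg.Agent.Twisted.TypeD4 (MT)

/-- The exceptional degree does not divide the group order. -/
theorem not_dvd {q : ℕ} (hq : 2 ≤ q) :
    ¬ (q - 1) * (q ^ 4 + q ^ 3 + 1) ∣ q ^ 12 * (q ^ 2 - 1) * (q ^ 6 - 1) * (q ^ 8 + q ^ 4 + 1) := by
  intro h
  obtain ⟨w, rfl⟩ : ∃ w, q = w + 2 := ⟨q - 2, by omega⟩
  set a : ℕ := (w + 2) ^ 4 + (w + 2) ^ 3 + 1 with ha
  set p1 : ℕ := (w + 2) ^ 2 + (w + 2) + 1 with hp1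
  set p2 : ℕ := (w + 2) * (w + 1) + 1 with hp2
  set p3 : ℕ := (w + 3) * ((w + 2) ^ 2 * (w + 1)) + 1 - (w + 2) ^ 2 * 0 with hp3
  have e1 : (w + 2) - 1 = w + 1 := by omega
  have hA : a ∣ (w + 2) ^ 12 * ((w + 3) ^ 2 * ((w + 1) * (p1 ^ 2 * (p2 ^ 2 * p3)))) := by
    have h2 : (w + 2) ^ 2 - 1 = (w + 1) * (w + 3) := by
      rw [Nat.sub_eq_iff_eq_add (Nat.one_le_pow _ _ (by omega))]; ring
    have h6 : (w + 2) ^ 6 - 1 = (w + 1) * (w + 3) * (p1 * p2) := by
      rw [Nat.sub_eq_iff_eq_add (Nat.one_le_pow _ _ (by omega)), hp1, hp2]; ring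
    have h8 : (w + 2) ^ 8 + (w + 2) ^ 4 + 1 = p1 * p2 * p3 := by
      rw [hp1, hp2, hp3, Nat.mul_zero, Nat.sub_zero]; ring
    rw [h2, h6, h8, e1] at h
    refine Nat.dvd_of_mul_dvd_mul_left (show 0 < w + 1 by omega) (h.trans (dvd_of_eq ?_))
    ring
  have c0 : Nat.Coprime a (w + 2) := by
    rw [ha, show (w + 2) ^ 4 + (w + 2) ^ 3 + 1 = 1 + (w + 2) * ((w + 2) ^ 3 + (w + 2) ^ 2) by ring]
    simp [Nat.coprime_add_mul_left_left]
  have c1 : Nat.Coprime a (w + 3) := by
    rw [ha, show (w + 2) ^ 4 + (w + 2) ^ 3 + 1 = 1 + (w + 3) * (w + 2) ^ 3 by ring]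
    simp [Nat.coprime_add_mul_left_left]
  have g1 : Nat.gcd a (w + 1) ∣ 3 := by
    rw [ha, show (w + 2) ^ 4 + (w + 2) ^ 3 + 1 =
      3 + (w + 1) * ((w + 2) ^ 3 + 2 * (w + 2) ^ 2 + 2 * (w + 2) + 2) by ring,
      Nat.gcd_add_mul_left_left]
    exact Nat.gcd_dvd_left _ _
  have g2 : Nat.gcd a p1 ∣ 3 := by
    rw [ha, show (w + 2) ^ 4 + (w + 2) ^ 3 + 1 = (w + 4) + p1 * ((w + 1) * (w + 3)) by rw [hp1]; ring,
      Nat.gcd_add_mul_left_left, hp1, show (w + 2) ^ 2 + (w + 2) + 1 = 3 + (w + 4) * (w + 1) by ring,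
      Nat.gcd_add_mul_left_right]
    exact Nat.gcd_dvd_right _ _
  have c2 : Nat.Coprime a p2 := by
    have h : a + (w + 2) = p2 * (w + 3) ^ 2 := by rw [ha, hp2]; ring
    have h1 : Nat.gcd a p2 ∣ w + 2 :=
      (Nat.dvd_add_right (Nat.gcd_dvd_left a p2)).1 (h ▸ Dvd.dvd.mul_right (Nat.gcd_dvd_right a p2) _)
    have h3 : Nat.gcd a p2 ∣ 1 :=
      (Nat.dvd_add_right (h1.mul_right (w + 1))).1 (hp2 ▸ Nat.gcd_dvd_right a p2)
    exact Nat.dvd_one.1 h3
  have c3 : Nat.Coprime a p3 := by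
    have h : a = p3 + (w + 2) ^ 2 * (w + 3) := by
      rw [ha, hp3, Nat.mul_zero, Nat.sub_zero]; ring
    have h1 : Nat.gcd a p3 ∣ (w + 2) ^ 2 * (w + 3) :=
      (Nat.dvd_add_right (Nat.gcd_dvd_right a p3)).1 (h ▸ Nat.gcd_dvd_left a p3)
    have h3 : Nat.gcd a p3 ∣ 1 := by
      have hz : p3 = (w + 2) ^ 2 * (w + 3) * (w + 1) + 1 := by
        rw [hp3, Nat.mul_zero, Nat.sub_zero]; ring
      exact (Nat.dvd_add_right (h1.mul_right (w + 1))).1 (hz ▸ Nat.gcd_dvd_right a p3)
    exact Nat.dvd_one.1 h3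
  have hB : a ∣ (w + 1) * p1 ^ 2 := by
    have h1 := (Nat.Coprime.pow_right 12 c0).dvd_of_dvd_mul_left hA
    have h2 := (Nat.Coprime.pow_right 2 c1).dvd_of_dvd_mul_left h1
    have h3 : a ∣ (w + 1) * p1 ^ 2 * (p2 ^ 2 * p3) := by rw [mul_assoc]; exact h2
    exact ((Nat.Coprime.pow_right 2 c2).mul_right c3).dvd_of_dvd_mul_right h3
  have hC : a ∣ 27 := by
    have h1 : Nat.gcd a ((w + 1) * p1 ^ 2) = a := Nat.gcd_eq_left hB
    rw [← h1, pow_two]
    refine (Nat.gcd_mul_right_dvd_mul_gcd _ _ _).trans ?_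
    exact (Nat.mul_dvd_mul g1 ((Nat.gcd_mul_right_dvd_mul_gcd _ _ _).trans
      (Nat.mul_dvd_mul g2 g2))).trans (by norm_num)
  rcases Nat.eq_zero_or_pos w with rfl | hw
  · rw [ha] at hC; norm_num at hC
  · have h3 : 3 ^ 4 ≤ (w + 2) ^ 4 := Nat.pow_le_pow_left (by omega) 4
    have := Nat.le_of_dvd (by norm_num) hC
    omega

variable {F : Type*} [Field F] [Fintype F] {q : ℕ} (hq : IsPrimePow q) (hK : Fintype.card F = q ^ 3)
  {d : ℕ} (ρ : ↥(G₁ F q) →* GL (Fin d) ℂ)

/-- The matrices on the fixed space of `Z`. -/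
def onZ (g : G₁ F q) : Matrix (Fin d) (Fin d) ℂ :=
  mat ρ g * idem (fun a => mat ρ (e23 hq hK a)) 1

theorem RZ_add (a b : kf hq hK) :
    mat ρ (e23 hq hK (a + b)) = mat ρ (e23 hq hK a) * mat ρ (e23 hq hK b) := by
  rw [e23_add, mat_mul]

theorem onZ_mul {g h : G₁ F q} (hh : ∀ a, h * e23 hq hK a = e23 hq hK a * h) :
    onZ hq hK ρ g * onZ hq hK ρ h = onZ hq hK ρ (g * h) := by
  have hc : idem (fun a => mat ρ (e23 hq hK a)) 1 * mat ρ h =
      mat ρ h * idem (fun a => mat ρ (e23 hq hK a)) 1 := by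
    simp only [idem, Cx.proj, mul_smul_comm, smul_mul_assoc, Finset.mul_sum, Finset.sum_mul,
      AddChar.one_apply, one_smul, ← mat_mul, hh]
  rw [onZ, onZ, onZ, mat_mul, ← mul_assoc (mat ρ g * _), mul_assoc (mat ρ g) _ (mat ρ h), hc,
    mul_assoc, mul_assoc, idem_sq (RZ_add hq hK ρ)]
  simp only [mul_assoc]

theorem onZ_e23 (g : G₁ F q) (a : kf hq hK) : onZ hq hK ρ (g * e23 hq hK a) = onZ hq hK ρ g := by
  rw [onZ, onZ, mat_mul, mul_assoc,
    R_mul_idem (R := fun a => mat ρ (e23 hq hK a)) (RZ_add hq hK ρ), AddChar.one_apply, one_smul]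

/-- A common fixed vector of two conjugates of `Z` and `Z'` gives one for the pair. -/
theorem eq_zero_of_conj (hP : P2 hq hK ρ = 0) (g : G₁ F q) {E : Matrix (Fin d) (Fin d) ℂ}
    (h : ∀ x, mat ρ (g * e2 hq hK x * g⁻¹) * E = E) : E = 0 := by
  have h1 : mat ρ g * P2 hq hK ρ * mat ρ g⁻¹ * E = E := by
    simp only [P2, idem, Cx.proj, mul_smul_comm, smul_mul_assoc, Finset.mul_sum, Finset.sum_mul,
      AddChar.one_apply, one_smul, R2, ← mat_mul, h]
    rw [Finset.sum_const, Finset.card_univ, ← Nat.cast_smul_eq_nsmul ℂ, smul_smul,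
      inv_mul_cancel₀ (card_ne (A := kf hq hK × kf hq hK)), one_smul]
  rw [← h1, hP]
  simp

include hq hK in
/-- The degree of a faithful representation without fixed vectors is at least `q (q⁴ - q² + 1)`. -/
theorem le_degree (hfaith : Function.Injective ρ)
    (hfix : ∀ v : Fin d → ℂ, (∀ g, mat ρ g *ᵥ v = v) → v = 0)
    (hdvd : d ∣ q ^ 12 * (q ^ 2 - 1) * (q ^ 6 - 1) * (q ^ 8 + q ^ 4 + 1)) :
    q * (q ^ 4 - q ^ 2 + 1) ≤ d := by
  classical
  obtain ⟨ψ, hψ, hψK⟩ := exists_psi hq hK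
  obtain ⟨θ, hθ⟩ := exists_shift hψ
  obtain ⟨θK, hθK⟩ := exists_shift hψK
  simp only [AddChar.compAddMonoidHom_apply] at hθK
  -- characters of the root pair
  let ev2 : kf hq hK × kf hq hK → (kf hq hK × kf hq hK →+ kf hq hK) := fun p =>
    AddMonoidHom.mk' (fun x => p.1 * x.1 + p.2 * x.2) fun x y => by
      simp only [Prod.fst_add, Prod.snd_add]; ring
  let ch : kf hq hK × kf hq hK → AddChar (kf hq hK × kf hq hK) ℂ := fun p => ψ.compAddMonoidHom (ev2 p)
  have hch : ∀ p x, ch p x = ψ (p.1 * x.1 + p.2 * x.2) := fun p x => rfl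
  have hchb : Function.Bijective ch := by
    refine (Fintype.bijective_iff_injective_and_card _).mpr ⟨fun p p' e => ?_, AddChar.card_eq.symm⟩
    refine Prod.ext (shift_inj hψ fun c => ?_) (shift_inj hψ fun c => ?_)
    · simpa [hch] using DFunLike.congr_fun e (c, 0)
    · simpa [hch] using DFunLike.congr_fun e (0, c)
  set m : kf hq hK × kf hq hK → ℕ := fun p => mult (R2 hq hK ρ) (ch p) with hm
  have hshift1 : ∀ u s t : kf hq hK, m (s, t) = m (s, t - s * u) := fun u s t => by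
    refine transfer (R2_add hq hK ρ) (ρ (e22 hq hK u)) (fun x => (x.1 - u * x.2, x.2)) ?_
      (fun x => ?_) fun x => ?_
    · exact ⟨fun x y h => by
        simp only [Prod.mk.injEq] at h
        obtain ⟨h1, h2⟩ := h
        rw [h2] at h1
        exact Prod.ext (sub_left_injective h1) h2, fun y => ⟨(y.1 + u * y.2, y.2), by simp⟩⟩
    · show mat ρ _ * mat ρ _ = mat ρ _ * mat ρ _
      rw [← mat_mul, ← mat_mul, e22_e2]
    · rw [hch, hch]; congr 1; ring
  have hshift2 : ∀ u s t : kf hq hK, m (s, t) = m (s - t * u, t) := fun u s t => by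
    refine transfer (R2_add hq hK ρ) (ρ (e1 hq hK u)) (fun x => (x.1, x.2 - u * x.1)) ?_
      (fun x => ?_) fun x => ?_
    · exact ⟨fun x y h => by
        simp only [Prod.mk.injEq] at h
        obtain ⟨h2, h1⟩ := h
        rw [h2] at h1
        exact Prod.ext h2 (sub_left_injective h1), fun y => ⟨(y.1, y.2 + u * y.1), by simp⟩⟩
    · show mat ρ _ * mat ρ _ = mat ρ _ * mat ρ _
      rw [← mat_mul, ← mat_mul, e1_e2]
    · rw [hch, hch]; congr 1; ring
  set M := m (1, 0) with hM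
  have hM1 : ∀ p, p ≠ 0 → m p = M := by
    have h1 : ∀ s t : kf hq hK, s ≠ 0 → m (s, t) = M := by
      intro s t hs
      rw [hshift1 ((t - 1) / s) s t, mul_div_cancel₀ _ hs, sub_sub_cancel,
        hshift2 (s - 1) s 1, one_mul, sub_sub_cancel, hshift1 1 1 1, one_mul, sub_self]
    rintro ⟨s, t⟩ hp
    by_cases hs : s = 0
    · subst hs
      have ht : t ≠ 0 := fun ht => hp (by rw [ht]; rfl)
      rw [hshift2 (-1 / t) 0 t, mul_div_cancel₀ _ ht]
      exact h1 _ _ (by norm_num)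
    · exact h1 s t hs
  have hR0 : R2 hq hK ρ 0 = 1 := by
    have h : e2 hq hK 0 = 1 := by
      have := e2_add hq hK 0 0
      rwa [add_zero, left_eq_mul] at this
    rw [R2, h, mat_one]
  set N := m 0 with hN
  have hd : d = N + (q ^ 2 - 1) * M := by
    have h := sum_mult (R2_add hq hK ρ)
    rw [hR0, Matrix.trace_one, Fintype.card_fin, Nat.cast_inj, ← (Equiv.ofBijective ch hchb).sum_comp] at h
    rw [← h, ← Finset.add_sum_erase _ _ (Finset.mem_univ (0 : kf hq hK × kf hq hK))]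
    congr 1
    rw [Finset.sum_congr rfl fun p hp => (show mult (R2 hq hK ρ) ((Equiv.ofBijective ch hchb) p) = M from
      hM1 p (Finset.mem_erase.1 hp).1), Finset.sum_const, Finset.card_erase_of_mem (Finset.mem_univ _),
      Finset.card_univ, Fintype.card_prod, card_kf, smul_eq_mul, ← pow_two]
  have hch0 : ch 0 = 1 := DFunLike.ext _ _ fun x => by simp [hch]
  -- `M` is positive
  have hMpos : 0 < M := by
    refine Nat.pos_of_ne_zero fun h0 => ?_
    have hz : ∀ χ, χ ≠ 1 → idem (R2 hq hK ρ) χ = 0 := fun χ hχ => by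
      by_contra h
      have hpos := (mult_pos_iff (R2_add hq hK ρ) χ).2 h
      obtain ⟨p, rfl⟩ := hchb.2 χ
      have := hM1 p fun hp => hχ (by rw [hp, hch0])
      simp only [hm] at this
      omega
    have h1 : idem (R2 hq hK ρ) 1 = 1 := by
      rw [← hR0, ← sum_idem (R := R2 hq hK ρ),
        Finset.sum_eq_single (1 : AddChar (kf hq hK × kf hq hK) ℂ) (fun χ _ hχ => hz χ hχ) (by simp)]
    have h2 : ρ (e2 hq hK (1, 0)) = ρ (e2 hq hK 0) := Units.ext (by
      show R2 hq hK ρ (1, 0) = R2 hq hK ρ 0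
      rw [← mul_one (R2 hq hK ρ (1, 0)), ← h1, R_mul_idem (R2_add hq hK ρ), AddChar.one_apply, one_smul,
        h1, hR0])
    have h3 := congrArg Subtype.val (hfaith h2)
    simp only [e2, Prod.fst_zero, Prod.snd_zero, Subgroup.coe_mul, mul_left_inj] at h3
    have h4 := (Twisted.TypeD4.frame₀ hq hK).iso.x_injective _ h3
    exact one_ne_zero (Subtype.ext h4 : (1 : kf hq hK) = 0)
  -- `M` is at least `q³`
  have hMge : q ^ 3 ≤ M := by
    set R3 : (kf hq hK × kf hq hK) × F → Matrix (Fin d) (Fin d) ℂ :=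
      fun x => mat ρ (e2 hq hK x.1 * eb hq hK x.2) with hR3'
    have hR3 : ∀ x y, R3 (x + y) = R3 x * R3 y := fun x y => by
      simp only [hR3', Prod.fst_add, Prod.snd_add, e2_add, eb_add, ← mat_mul]
      congr 1
      exact (Commute.mul_mul_mul_comm (eb_e2 hq hK x.2 y.1) _ _).symm
    let i : kf hq hK × kf hq hK →+ (kf hq hK × kf hq hK) × F := AddMonoidHom.inl _ _
    have hi : (fun p => R3 (i p)) = R2 hq hK ρ := funext fun p => by
      simp only [hR3', i, AddMonoidHom.inl_apply, R2]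
      rw [show eb hq hK 0 = 1 by
        have := eb_add hq hK 0 0
        rwa [add_zero, left_eq_mul] at this, mul_one]
    have hfib := fibre hR3 i (ch (1, 0))
    rw [hi] at hfib
    let ev3 : F → ((kf hq hK × kf hq hK) × F →+ kf hq hK) := fun β =>
      AddMonoidHom.mk' (fun x => x.1.1 + trk hq hK (β * x.2)) fun x y => by
        simp only [Prod.fst_add, Prod.snd_add, mul_add, map_add]; ring
    let c3 : F → AddChar ((kf hq hK × kf hq hK) × F) ℂ := fun β => ψ.compAddMonoidHom (ev3 β)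
    have hc3 : ∀ β x, c3 β x = ψ (x.1.1 + trk hq hK (β * x.2)) := fun β x => rfl
    have hc3i : Function.Injective c3 := fun β β' e => by
      refine shift_inj hψK fun c => ?_
      simpa [hc3, AddChar.compAddMonoidHom_apply] using DFunLike.congr_fun e ((0, 0), c)
    have hsub : Finset.univ.image c3 ⊆ Finset.univ.filter
        (fun χ : AddChar ((kf hq hK × kf hq hK) × F) ℂ => χ.compAddMonoidHom i = ch (1, 0)) := by
      intro χ hχ
      obtain ⟨β, -, rfl⟩ := Finset.mem_image.1 hχ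
      refine Finset.mem_filter.2 ⟨Finset.mem_univ _, DFunLike.ext _ _ fun x => ?_⟩
      simp [hc3, hch, i]
    have hsup : ∀ χ : AddChar ((kf hq hK × kf hq hK) × F) ℂ, χ.compAddMonoidHom i = ch (1, 0) →
        ∃ β, χ = c3 β := fun χ hχ => by
      refine ⟨θK (χ.compAddMonoidHom (AddMonoidHom.inr _ _)), DFunLike.ext _ _ fun x => ?_⟩
      have e1 : χ (x.1, 0) = ch (1, 0) x.1 := by rw [← hχ]; rfl
      have e2 : χ (0, x.2) = ψ (trk hq hK (θK (χ.compAddMonoidHom (AddMonoidHom.inr _ _)) * x.2)) := by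
        rw [← hθK]; rfl
      rw [hc3, AddChar.map_add_eq_mul, ← e2]
      conv_lhs => rw [show x = (x.1, 0) + (0, x.2) by simp]
      rw [AddChar.map_add_eq_mul, e1, hch]
      simp
    have hinv : ∀ β s : F, mult R3 (c3 (β - s)) = mult R3 (c3 β) := fun β s => by
      symm
      refine transfer hR3 (ρ (ec hq hK s))
        (fun x => ((x.1.1 - trk hq hK (x.2 * s), x.1.2), x.2)) ?_ (fun x => ?_) fun x => ?_
      · exact ⟨fun x y h => by
          simp only [Prod.mk.injEq] at h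
          obtain ⟨⟨h1, h2⟩, h3⟩ := h
          rw [h3] at h1
          exact Prod.ext (Prod.ext (sub_left_injective h1) h2) h3,
          fun y => ⟨((y.1.1 + trk hq hK (y.2 * s), y.1.2), y.2), by simp⟩⟩
      · show mat ρ _ * mat ρ _ = mat ρ _ * mat ρ _
        rw [← mat_mul, ← mat_mul]
        congr 1
        rw [← mul_assoc, ec_e2, mul_assoc, ec_eb, sub_eq_add_neg,
          show ((x.1.1 + -trk hq hK (x.2 * s), x.1.2) : kf hq hK × kf hq hK) =
            x.1 + (-trk hq hK (x.2 * s), 0) from Prod.ext rfl (add_zero _).symm, e2_add]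
        have h : e2 hq hK (-trk hq hK (x.2 * s), 0) = e23 hq hK (-trk hq hK (x.2 * s)) := by
          rw [e2, show e14 hq hK 0 = 1 from Subtype.ext ((MT.rel (KR F)).x_zero _), mul_one]
        rw [← h]
        dsimp only
        rw [eb_e2 hq hK x.2]
        simp only [mul_assoc]
      · rw [hc3, hc3]
        congr 1
        rw [sub_mul, map_sub, mul_comm x.2 s]
        ring
    obtain ⟨β₀, hβ₀⟩ : ∃ β₀, 0 < mult R3 (c3 β₀) := by
      by_contra hc
      push Not at hc
      refine absurd hMpos (Nat.not_lt.2 (le_of_eq ?_))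
      show mult (R2 hq hK ρ) (ch (1, 0)) = 0
      rw [hfib]
      refine Finset.sum_eq_zero fun χ hχ => ?_
      obtain ⟨β, rfl⟩ := hsup χ (Finset.mem_filter.1 hχ).2
      exact Nat.le_zero.1 (hc β)
    calc q ^ 3 = ∑ _β : F, 1 := by simp [hK]
      _ ≤ ∑ β : F, mult R3 (c3 β) := Finset.sum_le_sum fun β _ => by
          have := hinv β₀ (β₀ - β)
          rw [sub_sub_cancel] at this
          omega
      _ = ∑ χ ∈ Finset.univ.image c3, mult R3 χ := (Finset.sum_image fun a _ b _ e => hc3i e).symm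
      _ ≤ _ := Finset.sum_le_sum_of_subset hsub
      _ = M := hfib.symm
  -- some vector is fixed by the pair
  have hP : P2 hq hK ρ ≠ 0 := by
    intro hP
    set E₀ := idem (fun a => mat ρ (e23 hq hK a)) 1 with hE₀
    have hE₀0 : E₀ ≠ 0 := by
      refine (mult_pos_iff (RZ_add hq hK ρ) (1 : AddChar (kf hq hK) ℂ)).1 ?_
      let i : kf hq hK →+ kf hq hK × kf hq hK := AddMonoidHom.inl _ _
      have hi : (fun a => R2 hq hK ρ (i a)) = fun a => mat ρ (e23 hq hK a) := funext fun a => by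
        show mat ρ (e23 hq hK a * e14 hq hK 0) = _
        rw [show e14 hq hK 0 = 1 from Subtype.ext ((MT.rel (KR F)).x_zero _), mul_one]
      have hfib := fibre (R2_add hq hK ρ) i (1 : AddChar (kf hq hK) ℂ)
      rw [hi] at hfib
      rw [hfib]
      refine lt_of_lt_of_le hMpos ((le_of_eq (hM1 (0, 1) (by simp)).symm).trans
        (Finset.single_le_sum (f := fun χ => mult (R2 hq hK ρ) χ) (fun _ _ => Nat.zero_le _) ?_))
      exact Finset.mem_filter.2 ⟨Finset.mem_univ _, DFunLike.ext _ _ fun a => by simp [hch, i]⟩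
    have c23 : ∀ (g : G₁ F q), (∀ u : F, Commute (X 23 u) (g : ↥(chevD4.group F))) →
        ∀ a, g * e23 hq hK a = e23 hq hK a * g := fun g hg a => Subtype.ext (hg _).symm.eq
    have z14 : ∀ u a, e14 hq hK u * e23 hq hK a = e23 hq hK a * e14 hq hK u := fun u a =>
      (e23_comm_e14 hq hK a u).eq.symm
    have zb : ∀ u a, eb hq hK u * e23 hq hK a = e23 hq hK a * eb hq hK u := fun u =>
      c23 (eb hq hK u) fun v => comm_xb hq hK 23 (by decide +kernel) (by decide +kernel) (by decide +kernel) v u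
    have zc : ∀ u a, ec hq hK u * e23 hq hK a = e23 hq hK a * ec hq hK u := fun u =>
      c23 (ec hq hK u) fun v => comm_xc hq hK 23 (by decide +kernel) (by decide +kernel) (by decide +kernel) v u
    have z22 : ∀ u a, e22 hq hK u * e23 hq hK a = e23 hq hK a * e22 hq hK u := fun u =>
      c23 (e22 hq hK u) fun v => comm_x hq hK (r := 23) (s := 22) (by decide +kernel) v _
    let A : G₁ F q → Matrix (Fin d) (Fin d) ℂ := onZ hq hK ρ
    have hA : ∀ g h, (∀ a, h * e23 hq hK a = e23 hq hK a * h) → A g * A h = A (g * h) :=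
      fun g h hh => onZ_mul hq hK ρ hh
    have cab : ∀ a b, Commute (A (e14 hq hK a)) (A (eb hq hK b)) := fun a b => by
      show _ = _
      rw [hA _ _ (zb b), hA _ _ (z14 a)]
      congr 1
      exact Subtype.ext (comm_xb hq hK 14 (by decide +kernel) (by decide +kernel) (by decide +kernel) _ b).eq
    have cac : ∀ a c, Commute (A (e14 hq hK a)) (A (ec hq hK c)) := fun a c => by
      show _ = _
      rw [hA _ _ (zc c), hA _ _ (z14 a)]
      congr 1
      exact Subtype.ext (comm_xc hq hK 14 (by decide +kernel) (by decide +kernel) (by decide +kernel) _ c).eq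
    have cad : ∀ a u, Commute (A (e14 hq hK a)) (A (e22 hq hK u)) := fun a u => by
      show _ = _
      rw [hA _ _ (z22 u), hA _ _ (z14 a), e22_e14]
      exact (onZ_e23 hq hK ρ _ _).symm
    have cbc : ∀ b c, Commute (A (eb hq hK b)) (A (ec hq hK c)) := fun b c => by
      show _ = _
      rw [hA _ _ (zc c), hA _ _ (zb b), ec_eb, mul_assoc, ← zc c, ← mul_assoc]
      exact (onZ_e23 hq hK ρ _ _).symm
    have cbd : ∀ b u, Commute (A (eb hq hK b)) (A (e22 hq hK u)) := fun b u => by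
      show _ = _
      rw [hA _ _ (z22 u), hA _ _ (zb b)]
      congr 1
      exact Subtype.ext (comm_xb hq hK 22 (by decide +kernel) (by decide +kernel) (by decide +kernel) _ b).eq.symm
    have ccd : ∀ c u, Commute (A (ec hq hK c)) (A (e22 hq hK u)) := fun c u => by
      show _ = _
      rw [hA _ _ (z22 u), hA _ _ (zc c)]
      congr 1
      exact Subtype.ext (comm_xc hq hK 22 (by decide +kernel) (by decide +kernel) (by decide +kernel) _ c).eq.symm
    set R8 : kf hq hK × F × F × kf hq hK → Matrix (Fin d) (Fin d) ℂ := fun x =>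
      A (e14 hq hK x.1) * (A (eb hq hK x.2.1) * (A (ec hq hK x.2.2.1) * A (e22 hq hK x.2.2.2))) with hR8'
    have hR8 : ∀ x y, R8 (x + y) = R8 x * R8 y := fun x y => by
      simp only [hR8', Prod.fst_add, Prod.snd_add]
      rw [((cab y.1 x.2.1).symm.mul_left ((cac y.1 x.2.2.1).symm.mul_left
          (cad y.1 x.2.2.2).symm)).mul_mul_mul_comm,
        ((cbc y.2.1 x.2.2.1).symm.mul_left (cbd y.2.1 x.2.2.2).symm).mul_mul_mul_comm,
        (ccd y.2.2.1 x.2.2.2).symm.mul_mul_mul_comm,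
        hA (e14 hq hK x.1) _ (z14 _), hA (eb hq hK x.2.1) _ (zb _), hA (ec hq hK x.2.2.1) _ (zc _),
        hA (e22 hq hK x.2.2.2) _ (z22 _),
        ← e14_add, ← eb_add, ← ec_add, ← e22_add]
    have h0 : R8 0 = E₀ := by
      have o14 : e14 hq hK 0 = 1 := Subtype.ext ((MT.rel (KR F)).x_zero _)
      have o22 : e22 hq hK 0 = 1 := Subtype.ext ((MT.rel (KR F)).x_zero _)
      have ob : eb hq hK 0 = 1 := by
        have := eb_add hq hK 0 0; rwa [add_zero, left_eq_mul] at this
      have oc : ec hq hK 0 = 1 := by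
        have := ec_add hq hK 0 0; rwa [add_zero, left_eq_mul] at this
      simp only [hR8', Prod.fst_zero, Prod.snd_zero, o14, ob, oc, o22, A, onZ, mat_one, one_mul]
      rw [idem_sq (RZ_add hq hK ρ), idem_sq (RZ_add hq hK ρ), idem_sq (RZ_add hq hK ρ)]
    obtain ⟨χ, hχ⟩ := exists_mult_pos hR8 (h0 ▸ hE₀0)
    set E := idem R8 χ with hE
    have hE0 : E ≠ 0 := (mult_pos_iff hR8 χ).1 hχ
    have hEZ : ∀ a, mat ρ (e23 hq hK a) * E = E := fun a => by
      have h1 : E₀ * E = E := by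
        rw [← h0, hE, R_mul_idem hR8, AddChar.map_zero_eq_one, one_smul]
      rw [← h1, ← mul_assoc, hE₀, R_mul_idem (R := fun a => mat ρ (e23 hq hK a)) (RZ_add hq hK ρ),
        AddChar.one_apply, one_smul]
    have hA0 : ∀ g, A g * E = mat ρ g * E := fun g => by
      show onZ hq hK ρ g * E = _
      rw [onZ, mul_assoc]
      congr 1
      rw [← hE₀, ← h0, hE, R_mul_idem hR8, AddChar.map_zero_eq_one, one_smul]
    -- the coordinates of the character
    set α := θ (χ.compAddMonoidHom (AddMonoidHom.inl (kf hq hK) (F × F × kf hq hK))) with hα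
    set β := θK (χ.compAddMonoidHom ((AddMonoidHom.inr (kf hq hK) (F × F × kf hq hK)).comp
      (AddMonoidHom.inl F (F × kf hq hK)))) with hβ
    set γ := θK (χ.compAddMonoidHom ((AddMonoidHom.inr (kf hq hK) (F × F × kf hq hK)).comp
      ((AddMonoidHom.inr F (F × kf hq hK)).comp (AddMonoidHom.inl F (kf hq hK))))) with hγ
    set δ := θ (χ.compAddMonoidHom ((AddMonoidHom.inr (kf hq hK) (F × F × kf hq hK)).comp
      ((AddMonoidHom.inr F (F × kf hq hK)).comp (AddMonoidHom.inr F (kf hq hK))))) with hδ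
    have hval : ∀ a b c u, χ (a, b, c, u) =
        ψ (α * a + trk hq hK (β * b) + trk hq hK (γ * c) + δ * u) := fun a b c u => by
      rw [AddChar.map_add_eq_mul, AddChar.map_add_eq_mul, AddChar.map_add_eq_mul, hα, hβ, hγ, hδ, ← hθ,
        ← hθK, ← hθK, ← hθ]
      simp only [AddChar.compAddMonoidHom_apply, AddMonoidHom.comp_apply, AddMonoidHom.inl_apply,
        AddMonoidHom.inr_apply, ← AddChar.map_add_eq_mul, Prod.mk_add_mk, add_zero, zero_add]
    by_cases hδ0 : δ = 0
    · obtain ⟨n, hn, ⟨c, -, hcq, hc14⟩, ⟨c', -, hcq', hc23⟩, -⟩ := exists_n hq hK (F := F)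
      have hnG : n ∈ G₁ F q := (Subgroup.closure_le _).2
        (Set.union_subset (Set.range_subset_iff.2 (xu_mem hq hK))
          (Set.range_subset_iff.2 (xv_mem hq hK))) hn
      refine hE0 (eq_zero_of_conj hq hK ρ hP ⟨n, hnG⟩ fun x => ?_)
      have e : (⟨n, hnG⟩ : G₁ F q) * e2 hq hK x * ⟨n, hnG⟩⁻¹ =
          e22 hq hK (⟨c, hcq⟩ * x.2) * e23 hq hK (⟨c', hcq'⟩ * x.1) := by
        refine Subtype.ext ?_
        show n * (X 23 (x.1 : F) * X 14 (x.2 : F)) * n⁻¹ = X 22 (c * x.2) * X 23 (c' * x.1)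
        rw [show n * (X 23 (x.1 : F) * X 14 (x.2 : F)) * n⁻¹ =
          (n * X 23 (x.1 : F) * n⁻¹) * (n * X 14 (x.2 : F) * n⁻¹) by group, hc23, hc14]
        exact (comm_x hq hK (r := 23) (s := 22) (by decide +kernel) _ _).eq
      rw [e, mat_mul, mul_assoc, hEZ]
      set u := (⟨c, hcq⟩ : kf hq hK) * x.2 with hu
      have h1 : R8 (0, 0, 0, u) = A (e22 hq hK u) := by
        have o14 : e14 hq hK 0 = 1 := Subtype.ext ((MT.rel (KR F)).x_zero _)
        have ob : eb hq hK 0 = 1 := by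
          have := eb_add hq hK 0 0; rwa [add_zero, left_eq_mul] at this
        have oc : ec hq hK 0 = 1 := by
          have := ec_add hq hK 0 0; rwa [add_zero, left_eq_mul] at this
        simp only [hR8', o14, ob, oc]
        rw [hA _ _ (z22 u), one_mul, hA _ _ (z22 u), one_mul, hA _ _ (z22 u), one_mul]
      rw [← hA0, ← h1, hE, R_mul_idem hR8, hval, hδ0]
      simp
    · obtain ⟨t, ht⟩ := exists_zero hq hK (A := (α : F)) (D := -(δ : F)) β γ (fix hq hK α)
        (by rw [neg_q hq hK, fix hq hK δ]) (by simpa using hδ0)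
      refine hE0 (eq_zero_of_conj hq hK ρ hP (eu hq hK t) fun x => ?_)
      obtain ⟨z, hz⟩ := eu_e14 hq hK t x.2
      rw [e2, ← mul_assoc, eu_e23, mul_assoc (e23 hq hK x.1), mul_assoc, hz, mat_mul, mul_assoc]
      suffices h : mat ρ (e14 hq hK x.2 * eb hq hK (t * (x.2 : F)) *
          ec hq hK (t ^ q * t ^ q ^ 2 * (x.2 : F)) * e22 hq hK (-(nk hq hK t * x.2)) * e23 hq hK z) * E = E by
        rw [h, hEZ]
      rw [← hA0]
      show onZ hq hK ρ _ * E = E
      rw [onZ_e23]
      show A _ * E = E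
      rw [← hA _ _ (z22 _), ← hA _ _ (zc _), ← hA _ _ (zb _)]
      rw [show A (e14 hq hK x.2) * A (eb hq hK (t * (x.2 : F))) *
          A (ec hq hK (t ^ q * t ^ q ^ 2 * (x.2 : F))) * A (e22 hq hK (-(nk hq hK t * x.2))) =
        R8 (x.2, t * (x.2 : F), t ^ q * t ^ q ^ 2 * (x.2 : F), -(nk hq hK t * x.2)) by
          simp only [hR8', mul_assoc],
        hE, R_mul_idem hR8, hval]
      have h0' : α * x.2 + trk hq hK (β * (t * (x.2 : F))) +
          trk hq hK (γ * (t ^ q * t ^ q ^ 2 * (x.2 : F))) + δ * -(nk hq hK t * x.2) = 0 := by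
        rw [show β * (t * (x.2 : F)) = (x.2 : F) * (β * t) by ring,
          show γ * (t ^ q * t ^ q ^ 2 * (x.2 : F)) = (x.2 : F) * (γ * (t ^ q * t ^ q ^ 2)) by ring,
          trk_smul, trk_smul]
        refine Subtype.ext ?_
        simp only [Subfield.coe_add, Subfield.coe_mul, NegMemClass.coe_neg, ZeroMemClass.coe_zero,
          val_nk]
        show _ + (x.2 : F) * Tr q _ + (x.2 : F) * Tr q _ + _ = _
        linear_combination (x.2 : F) * ht
      rw [h0', AddChar.map_zero_eq_one, one_smul]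
  -- conclusion
  have hsm : ¬ N < q - 1 := by
    intro hlt
    have htop := stab_eq_top hq hK ρ (by
      rw [← cast_mult (R2_add hq hK ρ) (1 : AddChar (kf hq hK × kf hq hK) ℂ) |>.trans (show
        (idem (R2 hq hK ρ) 1).trace = (P2 hq hK ρ).trace from rfl), Complex.natCast_re, ← hch0]
      have : ((N : ℕ) : ℝ) < ((q - 1 : ℕ) : ℝ) := by exact_mod_cast hlt
      rwa [Nat.cast_sub hq.one_lt.le, Nat.cast_one] at this)
    obtain ⟨w, hw⟩ := Cx.exists_col_ne hP
    refine hw (hfix _ fun g => ?_)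
    rw [mulVec_mulVec, (mem_Stab hq hK ρ).1 (htop ▸ Subgroup.mem_top g)]
  have h2 := hq.two_le
  have hq4 : q * (q ^ 4 - q ^ 2 + 1) = (q ^ 2 - 1) * q ^ 3 + q := by
    zify [Nat.pow_le_pow_right hq.pos (show 2 ≤ 4 by norm_num), Nat.one_le_pow 2 q hq.pos]
    ring
  rw [hq4, hd]
  rcases Nat.lt_or_ge (q ^ 3) M with hlt | hle
  · have h3 : (q ^ 2 - 1) * (q ^ 3 + 1) ≤ (q ^ 2 - 1) * M := Nat.mul_le_mul_left _ hlt
    rw [Nat.mul_succ] at h3
    have h4 : q ≤ q ^ 2 - 1 := by
      have : 2 * q ≤ q ^ 2 := by rw [pow_two]; exact Nat.mul_le_mul_right q h2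
      omega
    omega
  · have hMq : M = q ^ 3 := le_antisymm hle hMge
    rw [hMq] at hd ⊢
    rcases Nat.lt_or_ge N q with hN' | hN'
    · exfalso
      refine not_dvd h2 ?_
      have hNq : N = q - 1 := by omega
      have e : d = (q - 1) * (q ^ 4 + q ^ 3 + 1) := by
        rw [hd, hNq]
        zify [Nat.one_le_pow 2 q hq.pos, show 1 ≤ q by omega]
        ring
      exact e ▸ hdvd
    · omega

end Cfsg.Agent.CrossChar56.D4Deg
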