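import Cfsg.Agent.CrossChar56.Decomp
import Mathlib.LinearAlgebra.Trace
import Mathlib.Data.Complex.Basic

/-!
Multiplicities of the characters of a finite abelian group in a matrix representation, possibly not
unital (helper56).
-/

set_option autoImplicit false

noncomputable section

namespace Cfsg.Agent.CrossChar56.D4Deg

open Matrix Cfsg.Agent.CrossChar56.Cx

variable {A : Type*} [AddCommGroup A] [Fintype A] {d : ℕ}

/-- the idempotent of a character -/
def idem (R : A → Matrix (Fin d) (Fin d) ℂ) (χ : AddChar A ℂ) : Matrix (Fin d) (Fin d) ℂ :=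
  (Fintype.card A : ℂ)⁻¹ • proj R χ

/-- the multiplicity of a character -/
def mult (R : A → Matrix (Fin d) (Fin d) ℂ) (χ : AddChar A ℂ) : ℕ :=
  Module.finrank ℂ (LinearMap.range (Matrix.mulVecLin (idem R χ)))

variable {R : A → Matrix (Fin d) (Fin d) ℂ} (hR : ∀ a b, R (a + b) = R a * R b)

theorem card_ne : (Fintype.card A : ℂ) ≠ 0 := Nat.cast_ne_zero.mpr Fintype.card_ne_zero

include hR in
theorem idem_sq (χ : AddChar A ℂ) : idem R χ * idem R χ = idem R χ := by
  rw [idem, smul_mul_smul_comm, proj_sq hR, smul_smul]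
  congr 1
  field_simp [card_ne (A := A)]

include hR in
theorem R_mul_idem (χ : AddChar A ℂ) (a : A) : R a * idem R χ = χ a • idem R χ := by
  rw [idem, mul_smul_comm, R_mul_proj hR, smul_comm]

theorem sum_idem : ∑ χ : AddChar A ℂ, idem R χ = R 0 := by
  simp only [idem, ← Finset.smul_sum, sum_proj, smul_smul, inv_mul_cancel₀ (card_ne (A := A)), one_smul]

include hR in
theorem cast_mult (χ : AddChar A ℂ) : (mult R χ : ℂ) = (idem R χ).trace := by
  have hp : LinearMap.IsProj (LinearMap.range (Matrix.mulVecLin (idem R χ)))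
      (Matrix.mulVecLin (idem R χ)) := ⟨fun x => LinearMap.mem_range_self _ x, by
    rintro _ ⟨y, rfl⟩
    simp [mulVec_mulVec, idem_sq hR]⟩
  rw [mult, ← hp.trace, ← Matrix.toLin'_apply', Matrix.trace_toLin'_eq]

include hR in
theorem sum_mult : (∑ χ : AddChar A ℂ, mult R χ : ℕ) = (R 0).trace := by
  rw [Nat.cast_sum, ← sum_idem (R := R), Matrix.trace_sum]
  exact Finset.sum_congr rfl fun χ _ => cast_mult hR χ

include hR in
theorem trace_eq (a : A) : (R a).trace = ∑ χ : AddChar A ℂ, (mult R χ : ℂ) * χ a := by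
  rw [show R a = R a * R 0 by rw [← hR, add_zero], ← sum_idem (R := R), Finset.mul_sum,
    Matrix.trace_sum]
  refine Finset.sum_congr rfl fun χ _ => ?_
  rw [R_mul_idem hR, Matrix.trace_smul, cast_mult hR, smul_eq_mul, mul_comm]

include hR in
theorem fibre {B : Type*} [AddCommGroup B] [Fintype B] (i : B →+ A) (φ : AddChar B ℂ) :
    mult (fun b => R (i b)) φ =
      ∑ χ ∈ Finset.univ.filter (fun χ : AddChar A ℂ => χ.compAddMonoidHom i = φ), mult R χ := by
  classical
  have hR' : ∀ a b, R (i (a + b)) = R (i a) * R (i b) := fun a b => by rw [map_add, hR]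
  apply Nat.cast_injective (R := ℂ)
  rw [cast_mult hR', idem, Matrix.trace_smul, proj, Matrix.trace_sum, smul_eq_mul,
    inv_mul_eq_iff_eq_mul₀ (card_ne (A := B)), Nat.cast_sum, Finset.mul_sum, Finset.sum_filter]
  simp only [Matrix.trace_smul, trace_eq hR, smul_eq_mul, Finset.mul_sum]
  rw [Finset.sum_comm]
  refine Finset.sum_congr rfl fun χ _ => ?_
  have e : ∑ b : B, φ (-b) * ((mult R χ : ℂ) * χ (i b)) =
      (mult R χ : ℂ) * ∑ b : B, (χ.compAddMonoidHom i / φ) b := by
    rw [Finset.mul_sum]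
    refine Finset.sum_congr rfl fun b _ => ?_
    rw [AddChar.div_apply', AddChar.compAddMonoidHom_apply, AddChar.map_neg_eq_inv]
    ring
  rw [e, AddChar.sum_eq_ite]
  by_cases h : χ.compAddMonoidHom i = φ
  · have h0 : χ.compAddMonoidHom i / φ = 0 := by
      rw [h, div_self', AddChar.one_eq_zero]
    rw [if_pos h, if_pos h0, mul_comm]
  · have h0 : χ.compAddMonoidHom i / φ ≠ 0 := fun h0 => h (by
      rwa [← AddChar.one_eq_zero, div_eq_one] at h0)
    rw [if_neg h, if_neg h0, mul_zero]

include hR in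
theorem mult_pos_iff (χ : AddChar A ℂ) : 0 < mult R χ ↔ idem R χ ≠ 0 := by
  constructor
  · intro h h0
    rw [mult, h0, Matrix.mulVecLin_zero, LinearMap.range_zero, finrank_bot] at h
    exact lt_irrefl _ h
  · intro h
    refine Nat.pos_of_ne_zero fun h0 => h ?_
    rw [mult, Submodule.finrank_eq_zero, LinearMap.range_eq_bot] at h0
    rw [← LinearMap.toMatrix'_toLin' (idem R χ), Matrix.toLin'_apply', h0, map_zero]

include hR in
theorem exists_mult_pos (h : R 0 ≠ 0) : ∃ χ : AddChar A ℂ, 0 < mult R χ := by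
  by_contra hc
  push Not at hc
  refine h ((sum_idem (R := R)).symm.trans (Finset.sum_eq_zero fun χ _ => ?_))
  by_contra h0
  exact absurd ((mult_pos_iff hR χ).2 h0) (Nat.not_lt.2 (hc χ))

include hR in
theorem transfer (P : GL (Fin d) ℂ) (f : A → A) (hf : Function.Bijective f)
    (hP : ∀ a, (P : Matrix (Fin d) (Fin d) ℂ) * R a = R (f a) * P)
    {χ φ : AddChar A ℂ} (hφ : ∀ a, φ (f a) = χ a) : mult R φ = mult R χ := by
  apply Nat.cast_injective (R := ℂ)
  rw [cast_mult hR, cast_mult hR]
  have e : (P : Matrix (Fin d) (Fin d) ℂ) * idem R χ = idem R φ * P := by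
    simp only [idem, proj, mul_smul_comm, smul_mul_assoc, Finset.mul_sum, Finset.sum_mul, hP]
    congr 1
    refine Fintype.sum_bijective f hf _ _ (fun a => ?_)
    rw [AddChar.map_neg_eq_inv, AddChar.map_neg_eq_inv, hφ]
  rw [show idem R φ = (P : Matrix (Fin d) (Fin d) ℂ) * idem R χ * ((P⁻¹ : GL (Fin d) ℂ) :
    Matrix (Fin d) (Fin d) ℂ) by rw [e, mul_assoc, P.mul_inv, mul_one]]
  exact Matrix.trace_units_conj P _

end Cfsg.Agent.CrossChar56.D4Deg
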