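import Cfsg.Agent.CrossChar56.D4Deg.Zero
import Cfsg.Agent.CrossChar56.D4Deg.Mult
import Cfsg.Agent.CrossChar56.Common

/-!
The field with `q` elements, its characters, and the one-parameter subgroups (helper56).
-/

set_option autoImplicit false

noncomputable section

namespace Cfsg.Agent.CrossChar56.D4Deg

open Cfsg.Lie Matrix
open Cfsg.Agent.Twisted.TypeD4 (MT)

variable {F : Type*} [Field F] [Fintype F] {q : ℕ} (hq : IsPrimePow q) (hK : Fintype.card F = q ^ 3)

/-- The field with `q` elements. -/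
def kf : Subfield F :=
  RingHom.eqLocusField
    { toFun := fun t : F => t ^ q
      map_one' := one_pow q
      map_mul' := fun a b => mul_pow a b q
      map_zero' := zero_pow hq.pos.ne'
      map_add' := fun a b => add_q hq hK a b }
    (RingHom.id F)

theorem fix (a : kf hq hK) : (a : F) ^ q = a := a.2

instance : Fintype (kf hq hK) := Fintype.ofFinite _

theorem card_kf : Fintype.card (kf hq hK) = q := by
  rw [Fintype.card_eq_nat_card]
  exact Twisted.card_fixed_pow (F := F) hq.one_lt hK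

/-- The trace. -/
def trk : F →+ kf hq hK :=
  AddMonoidHom.mk' (fun x => ⟨Tr q x, Tr_q hq hK x⟩) fun x y => Subtype.ext (Tr_add hq hK x y)

theorem trk_smul (a : kf hq hK) (x : F) : trk hq hK ((a : F) * x) = a * trk hq hK x :=
  Subtype.ext (Tr_smul hq hK (fix hq hK a) x)

theorem exists_psi : ∃ ψ : AddChar (kf hq hK) ℂ, ψ.IsPrimitive ∧
    (ψ.compAddMonoidHom (trk hq hK)).IsPrimitive := by
  obtain ⟨ψ, hψ⟩ := AddChar.exists_apply_ne_zero.mpr (one_ne_zero : (1 : kf hq hK) ≠ 0)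
  obtain ⟨x, hx⟩ := exists_Tr_eq_one hq hK
  refine ⟨ψ, AddChar.IsPrimitive.of_ne_one (AddChar.ne_one_iff.mpr ⟨1, hψ⟩),
    AddChar.IsPrimitive.of_ne_one (AddChar.ne_one_iff.mpr ⟨x, ?_⟩)⟩
  rw [AddChar.compAddMonoidHom_apply, show trk hq hK x = 1 from Subtype.ext hx]
  exact hψ

/-- `e_θ`. -/
def e23 (a : kf hq hK) : G₁ F q :=
  ⟨X 23 (a : F), x_fixed hq hK 23 (by decide +kernel) (by decide +kernel) (fix hq hK a)⟩

/-- `e_{α₂}`. -/
def e14 (a : kf hq hK) : G₁ F q :=
  ⟨X 14 (a : F), x_fixed hq hK 14 (by decide +kernel) (by decide +kernel) (fix hq hK a)⟩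

/-- `e_γ`. -/
def e22 (a : kf hq hK) : G₁ F q :=
  ⟨X 22 (a : F), x_fixed hq hK 22 (by decide +kernel) (by decide +kernel) (fix hq hK a)⟩

/-- `e_{-γ}`. -/
def e1 (a : kf hq hK) : G₁ F q :=
  ⟨X 1 (a : F), x_fixed hq hK 1 (by decide +kernel) (by decide +kernel) (fix hq hK a)⟩

/-- the orbit of `α₂ + αᵢ` -/
def eb (b : F) : G₁ F q := ⟨xb q b, xb_mem hq hK b⟩

/-- the orbit of `α₂ + αᵢ + αⱼ` -/
def ec (b : F) : G₁ F q := ⟨xc q b, xc_mem hq hK b⟩

/-- the orbit of `αᵢ` -/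
def eu (b : F) : G₁ F q := ⟨xu q b, xu_mem hq hK b⟩

/-- the orbit of `-αᵢ` -/
def ev (b : F) : G₁ F q := ⟨xv q b, xv_mem hq hK b⟩

theorem e23_add (a b : kf hq hK) : e23 hq hK (a + b) = e23 hq hK a * e23 hq hK b :=
  Subtype.ext ((MT.rel (KR F)).x_add _ _ _)

theorem e14_add (a b : kf hq hK) : e14 hq hK (a + b) = e14 hq hK a * e14 hq hK b :=
  Subtype.ext ((MT.rel (KR F)).x_add _ _ _)

theorem e22_add (a b : kf hq hK) : e22 hq hK (a + b) = e22 hq hK a * e22 hq hK b :=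
  Subtype.ext ((MT.rel (KR F)).x_add _ _ _)

theorem e1_add (a b : kf hq hK) : e1 hq hK (a + b) = e1 hq hK a * e1 hq hK b :=
  Subtype.ext ((MT.rel (KR F)).x_add _ _ _)

theorem eb_add (a b : F) : eb hq hK (a + b) = eb hq hK a * eb hq hK b := Subtype.ext (xb_add hq hK a b)

theorem ec_add (a b : F) : ec hq hK (a + b) = ec hq hK a * ec hq hK b := Subtype.ext (xc_add hq hK a b)

theorem eu_add (a b : F) : eu hq hK (a + b) = eu hq hK a * eu hq hK b := Subtype.ext (xu_add hq hK a b)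

theorem ev_add (a b : F) : ev hq hK (a + b) = ev hq hK a * ev hq hK b := Subtype.ext (xv_add hq hK a b)

/-- The root pair `{θ, α₂}`. -/
def e2 (x : kf hq hK × kf hq hK) : G₁ F q := e23 hq hK x.1 * e14 hq hK x.2

theorem e23_comm_e14 (a b : kf hq hK) : Commute (e23 hq hK a) (e14 hq hK b) :=
  Subtype.ext (comm_x hq hK (r := 23) (s := 14) (by decide +kernel) _ _).eq

theorem e2_add (x y : kf hq hK × kf hq hK) : e2 hq hK (x + y) = e2 hq hK x * e2 hq hK y := by
  simp only [e2, Prod.fst_add, Prod.snd_add, e23_add, e14_add]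
  rw [(e23_comm_e14 hq hK y.1 x.2).mul_mul_mul_comm]

theorem e22_e2 (d : kf hq hK) (x : kf hq hK × kf hq hK) :
    e22 hq hK d * e2 hq hK x = e2 hq hK (x.1 - d * x.2, x.2) * e22 hq hK d :=
  Subtype.ext (mul_inv_eq_iff_eq_mul.1 (conj22 hq hK (d : F) x.1 x.2))

theorem e1_e2 (d : kf hq hK) (x : kf hq hK × kf hq hK) :
    e1 hq hK d * e2 hq hK x = e2 hq hK (x.1, x.2 - d * x.1) * e1 hq hK d :=
  Subtype.ext (mul_inv_eq_iff_eq_mul.1 (conj1' hq hK (d : F) x.1 x.2))

theorem comm_e2 {g : G₁ F q} (h : ∀ u : F, Commute (g : ↥(chevD4.group F)) (X 23 u))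
    (h' : ∀ u : F, Commute (g : ↥(chevD4.group F)) (X 14 u)) (x : kf hq hK × kf hq hK) :
    g * e2 hq hK x = e2 hq hK x * g :=
  Subtype.ext ((h _).mul_right (h' _)).eq

theorem eb_e2 (b : F) (x : kf hq hK × kf hq hK) : eb hq hK b * e2 hq hK x = e2 hq hK x * eb hq hK b :=
  comm_e2 hq hK
    (fun u => (comm_xb hq hK 23 (by decide +kernel) (by decide +kernel) (by decide +kernel) u b).symm)
    (fun u => (comm_xb hq hK 14 (by decide +kernel) (by decide +kernel) (by decide +kernel) u b).symm) x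

theorem ec_e2 (b : F) (x : kf hq hK × kf hq hK) : ec hq hK b * e2 hq hK x = e2 hq hK x * ec hq hK b :=
  comm_e2 hq hK
    (fun u => (comm_xc hq hK 23 (by decide +kernel) (by decide +kernel) (by decide +kernel) u b).symm)
    (fun u => (comm_xc hq hK 14 (by decide +kernel) (by decide +kernel) (by decide +kernel) u b).symm) x

theorem ev_e2 (b : F) (x : kf hq hK × kf hq hK) : ev hq hK b * e2 hq hK x = e2 hq hK x * ev hq hK b :=
  comm_e2 hq hK
    (fun u => (comm_xv hq hK 23 (by decide +kernel) (by decide +kernel) (by decide +kernel) u b).symm)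
    (fun u => (comm_xv hq hK 14 (by decide +kernel) (by decide +kernel) (by decide +kernel) u b).symm) x

theorem eu_e23 (b : F) (a : kf hq hK) : eu hq hK b * e23 hq hK a = e23 hq hK a * eu hq hK b :=
  Subtype.ext (comm_xu hq hK 23 (by decide +kernel) (by decide +kernel) (by decide +kernel) _ b).symm.eq

theorem ec_eb (c b : F) :
    ec hq hK c * eb hq hK b = eb hq hK b * e23 hq hK (-trk hq hK (b * c)) * ec hq hK c := by
  refine Subtype.ext ?_
  show xc q c * xb q b = xb q b * X 23 ((-trk hq hK (b * c) : kf hq hK) : F) * xc q c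
  rw [← mul_inv_eq_iff_eq_mul, conj_xc_xb hq hK]
  rfl

theorem e22_e14 (d a : kf hq hK) :
    e22 hq hK d * e14 hq hK a = e14 hq hK a * e22 hq hK d * e23 hq hK (-(d * a)) := by
  have h := e22_e2 hq hK d (0, a)
  have h0 : e23 hq hK 0 = 1 := Subtype.ext ((MT.rel (KR F)).x_zero _)
  rw [e2, e2] at h
  simp only [h0, one_mul, zero_sub] at h
  rw [h, mul_assoc]
  have h1 : Commute (e23 hq hK (-(d * a))) (e14 hq hK a * e22 hq hK d) :=
    (e23_comm_e14 hq hK _ a).mul_right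
      (Subtype.ext (comm_x hq hK (r := 23) (s := 22) (by decide +kernel) _ _).eq)
  rw [h1.eq, mul_assoc]

/-- The norm. -/
def nk (t : F) : kf hq hK := ⟨Nm q t, Nm_q hq hK t⟩

theorem val_nk (t : F) : ((nk hq hK t : kf hq hK) : F) = Nm q t := rfl

theorem val_e22 (a : kf hq hK) : ((e22 hq hK a : G₁ F q) : ↥(chevD4.group F)) = X 22 (a : F) := rfl

theorem val_e23 (a : kf hq hK) : ((e23 hq hK a : G₁ F q) : ↥(chevD4.group F)) = X 23 (a : F) := rfl

theorem eu_e14 (t : F) (a : kf hq hK) : ∃ z : kf hq hK,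
    eu hq hK t * e14 hq hK a * (eu hq hK t)⁻¹ = e14 hq hK a * eb hq hK (t * (a : F)) *
      ec hq hK (t ^ q * t ^ q ^ 2 * (a : F)) *
      e22 hq hK (-(nk hq hK t * a)) * e23 hq hK z := by
  refine ⟨-(nk hq hK t * a * a), Subtype.ext ?_⟩
  simp only [Subgroup.coe_mul, Subgroup.coe_inv, val_e22, val_e23, Subfield.coe_mul,
    NegMemClass.coe_neg, val_nk]
  exact conj_xu_x14 hq hK t (a : F) (fix hq hK a)

variable {d : ℕ} (ρ : ↥(G₁ F q) →* GL (Fin d) ℂ)

/-- The matrix of an element. -/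
abbrev mat (g : G₁ F q) : Matrix (Fin d) (Fin d) ℂ := (ρ g : Matrix (Fin d) (Fin d) ℂ)

omit [Fintype F] in
theorem mat_mul (g h : G₁ F q) : mat ρ (g * h) = mat ρ g * mat ρ h := by
  simp [mat]

omit [Fintype F] in
theorem mat_one : mat ρ (1 : G₁ F q) = 1 := by simp [mat]

/-- The representation of the root pair. -/
def R2 (x : kf hq hK × kf hq hK) : Matrix (Fin d) (Fin d) ℂ := mat ρ (e2 hq hK x)

theorem R2_add (x y : kf hq hK × kf hq hK) : R2 hq hK ρ (x + y) = R2 hq hK ρ x * R2 hq hK ρ y := by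
  rw [R2, e2_add, mat_mul]; rfl

/-- The projection on the fixed space of the root pair. -/
def P2 : Matrix (Fin d) (Fin d) ℂ := idem (R2 hq hK ρ) 1

theorem P2_sq : P2 hq hK ρ * P2 hq hK ρ = P2 hq hK ρ := idem_sq (R2_add hq hK ρ) 1

theorem R2_P2 (x : kf hq hK × kf hq hK) : R2 hq hK ρ x * P2 hq hK ρ = P2 hq hK ρ := by
  rw [P2, R_mul_idem (R2_add hq hK ρ), AddChar.one_apply, one_smul]

theorem P2_comm {g : G₁ F q} (f : kf hq hK × kf hq hK → kf hq hK × kf hq hK) (hf : Function.Bijective f)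
    (h : ∀ x, g * e2 hq hK x = e2 hq hK (f x) * g) :
    mat ρ g * P2 hq hK ρ = P2 hq hK ρ * mat ρ g := by
  simp only [P2, idem, Cx.proj, mul_smul_comm, smul_mul_assoc, Finset.mul_sum, Finset.sum_mul,
    AddChar.one_apply, one_smul, R2]
  congr 1
  refine Fintype.sum_bijective f hf _ _ fun x => ?_
  rw [← mat_mul, h, mat_mul]

end Cfsg.Agent.CrossChar56.D4Deg
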