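import Cfsg.Agent.CrossChar56.D4Deg.Setup

/-!
A small fixed space of the root pair is fixed by the whole group (helper56).
-/

set_option autoImplicit false

noncomputable section

namespace Cfsg.Agent.CrossChar56.D4Deg

open Cfsg.Lie Matrix
open Cfsg.Agent.Twisted (tor)
open Cfsg.Agent.Twisted.TypeD4 (MT cvec)

variable {F : Type*} [Field F] [Fintype F] {q : ℕ} (hq : IsPrimePow q) (hK : Fintype.card F = q ^ 3)
  {d : ℕ} (ρ : ↥(G₁ F q) →* GL (Fin d) ℂ)

theorem unit_fix (a : (kf hq hK)ˣ) :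
    (Units.map (kf hq hK).subtype.toMonoidHom a) ^ q = Units.map (kf hq hK).subtype.toMonoidHom a :=
  Units.ext (by rw [Units.val_pow_eq_pow_val]; exact fix hq hK (a : kf hq hK))

/-- A torus element with parameters in the field with `q` elements. -/
def hh (a b : (kf hq hK)ˣ) : G₁ F q :=
  ⟨tor MT (KR F) (cvec q (Units.map (kf hq hK).subtype.toMonoidHom a)
    (Units.map (kf hq hK).subtype.toMonoidHom b)), tor_mem hq hK (unit_fix hq hK b)⟩

/-- The character of `hh` at a root. -/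
def hc (a b : (kf hq hK)ˣ) (s : Fin MT.tab.n) : (kf hq hK)ˣ :=
  a ^ (chevD4.pairing ((MT.S).simple 0).val s.val + chevD4.pairing ((MT.S).simple 2).val s.val +
        chevD4.pairing ((MT.S).simple 3).val s.val) *
      b ^ chevD4.pairing ((MT.S).simple 1).val s.val

theorem hh_x (a b : (kf hq hK)ˣ) (r : Fin MT.tab.n) (t : F) :
    (hh hq hK a b : G₁ F q).1 * X r t * (hh hq hK a b : G₁ F q).1⁻¹ =
      X r (((hc hq hK a b r : kf hq hK) : F) * t) := by
  refine (tor_conj_x hq hK _ r t).trans ?_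
  rw [chi_cvec hq hK _ _ (unit_fix hq hK a), ← map_zpow, ← map_zpow, ← map_mul]
  rfl

theorem hh_three (a b l : (kf hq hK)ˣ) (r s w : Fin MT.tab.n) (h1 : hc hq hK a b r = l)
    (h2 : hc hq hK a b s = l) (h3 : hc hq hK a b w = l) (x y z : F) :
    (hh hq hK a b : G₁ F q).1 * (X r x * X s y * X w z) =
      X r (((l : kf hq hK) : F) * x) * X s (((l : kf hq hK) : F) * y) * X w (((l : kf hq hK) : F) * z) *
        (hh hq hK a b : G₁ F q).1 := by
  conv_rhs => arg 1; rw [← congrArg (fun u : (kf hq hK)ˣ => X r (((u : kf hq hK) : F) * x)) h1,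
    ← congrArg (fun u : (kf hq hK)ˣ => X s (((u : kf hq hK) : F) * y)) h2,
    ← congrArg (fun u : (kf hq hK)ˣ => X w (((u : kf hq hK) : F) * z)) h3, ← hh_x, ← hh_x, ← hh_x]
  group

theorem hh_e2 (a b : (kf hq hK)ˣ) : mat ρ (hh hq hK a b) * P2 hq hK ρ = P2 hq hK ρ * mat ρ (hh hq hK a b) := by
  refine P2_comm hq hK ρ (fun x => ((hc hq hK a b 23 : kf hq hK) * x.1, (hc hq hK a b 14 : kf hq hK) * x.2))
    ?_ fun x => Subtype.ext ?_
  · exact ⟨fun x y h => Prod.ext (mul_left_cancel₀ (Units.ne_zero _) (congrArg Prod.fst h :))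
      (mul_left_cancel₀ (Units.ne_zero _) (congrArg Prod.snd h :)), fun y =>
      ⟨(((hc hq hK a b 23)⁻¹ : (kf hq hK)ˣ) * y.1, ((hc hq hK a b 14)⁻¹ : (kf hq hK)ˣ) * y.2), by simp⟩⟩
  · refine mul_inv_eq_iff_eq_mul.1 ?_
    show (hh hq hK a b : G₁ F q).1 * (X 23 _ * X 14 _) * (hh hq hK a b : G₁ F q).1⁻¹ = _
    rw [show ∀ (h u v : ↥(chevD4.group F)), h * (u * v) * h⁻¹ = (h * u * h⁻¹) * (h * v * h⁻¹) from
      fun h u v => by group, hh_x, hh_x]
    rfl

variable (hsmall : ((P2 hq hK ρ).trace).re < (q : ℝ) - 1)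

include hsmall in
/-- A one-parameter subgroup scaled by torus elements acts trivially on a small fixed space. -/
theorem trivial_of_small {W : Type*} [AddCommGroup W] [Fintype W] [Module (kf hq hK) W]
    (Y : W → G₁ F q) (hadd : ∀ a b, Y (a + b) = Y a * Y b)
    (hinv : ∀ w, P2 hq hK ρ * mat ρ (Y w) * P2 hq hK ρ = mat ρ (Y w) * P2 hq hK ρ)
    (hscale : ∀ l : (kf hq hK)ˣ, ∃ h : G₁ F q, mat ρ h * P2 hq hK ρ = P2 hq hK ρ * mat ρ h ∧
      ∀ w, h * Y w = Y ((l : kf hq hK) • w) * h) (w : W) :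
    mat ρ (Y w) * P2 hq hK ρ = P2 hq hK ρ := by
  classical
  set R : W → Matrix (Fin d) (Fin d) ℂ := fun w => mat ρ (Y w) * P2 hq hK ρ with hR'
  have hY0 : Y 0 = 1 := by
    have := hadd 0 0
    rwa [add_zero, left_eq_mul] at this
  have hR0 : R 0 = P2 hq hK ρ := by simp [hR', hY0, mat_one]
  have hR : ∀ a b, R (a + b) = R a * R b := fun a b => by
    simp only [hR']
    rw [hadd, mat_mul, ← mul_assoc (mat ρ (Y a) * _) (mat ρ (Y b)), mul_assoc (mat ρ (Y a)) _ (mat ρ (Y b)),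
      mul_assoc (mat ρ (Y a)) (P2 hq hK ρ * mat ρ (Y b)), hinv, ← mul_assoc]
  have hnone : ∀ χ : AddChar W ℂ, χ ≠ 1 → idem R χ = 0 := by
    intro χ hχ
    by_contra h0
    have hpos : 0 < mult R χ := (mult_pos_iff hR χ).2 h0
    let tr : (kf hq hK)ˣ → AddChar W ℂ := fun l =>
      χ.compAddMonoidHom (DistribSMul.toAddMonoidHom W (l : kf hq hK))
    have htr : ∀ l, mult R (tr l) = mult R χ := fun l => by
      obtain ⟨h, hcom, hY⟩ := hscale l
      refine (transfer hR (ρ h) (fun w => (l : kf hq hK) • w) ?_ (fun w => ?_)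
        (χ := tr l) (φ := χ) fun w => rfl).symm
      · exact ⟨fun a b e => by
          have := congrArg (fun v => ((l⁻¹ : (kf hq hK)ˣ) : kf hq hK) • v) e
          simpa [smul_smul] using this,
          fun v => ⟨((l⁻¹ : (kf hq hK)ˣ) : kf hq hK) • v, by simp [smul_smul]⟩⟩
      · show mat ρ h * (mat ρ (Y w) * P2 hq hK ρ) = mat ρ (Y _) * P2 hq hK ρ * mat ρ h
        rw [← mul_assoc, ← mat_mul, hY, mat_mul, mul_assoc, hcom, mul_assoc]
    have hinj : Function.Injective tr := by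
      intro l l' e
      by_contra hne
      refine hχ (DFunLike.ext _ _ fun w => ?_)
      have hd : ((l : kf hq hK) - l') ≠ 0 := sub_ne_zero.2 fun h => hne (Units.ext h)
      have h1 := DFunLike.congr_fun e (((l : kf hq hK) - l')⁻¹ • w)
      simp only [tr, AddChar.compAddMonoidHom_apply, DistribSMul.toAddMonoidHom_apply] at h1
      rw [AddChar.one_apply,
        show w = ((l : kf hq hK) • (((l : kf hq hK) - l')⁻¹ • w)) -
            ((l' : kf hq hK) • (((l : kf hq hK) - l')⁻¹ • w)) by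
          rw [← sub_smul, smul_smul, mul_inv_cancel₀ hd, one_smul],
        AddChar.map_sub_eq_div, h1, div_self]
      exact (AddChar.val_isUnit _ _).ne_zero
    have h1 : q - 1 ≤ ∑ φ : AddChar W ℂ, mult R φ := by
      calc q - 1 = Fintype.card (kf hq hK)ˣ := by rw [Fintype.card_units, card_kf]
        _ = ∑ _l : (kf hq hK)ˣ, 1 := by simp
        _ ≤ ∑ l : (kf hq hK)ˣ, mult R (tr l) := Finset.sum_le_sum fun l _ => by
            rw [htr]; exact hpos
        _ = ∑ φ ∈ Finset.univ.image tr, mult R φ := (Finset.sum_image fun a _ b _ e => hinj e).symm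
        _ ≤ _ := Finset.sum_le_sum_of_subset (Finset.subset_univ _)
    have h2 := sum_mult hR
    rw [hR0] at h2
    rw [← h2, Complex.natCast_re] at hsmall
    have h3 : ((q - 1 : ℕ) : ℝ) ≤ ((∑ φ : AddChar W ℂ, mult R φ : ℕ) : ℝ) := by exact_mod_cast h1
    rw [Nat.cast_sub hq.one_lt.le, Nat.cast_one] at h3
    linarith
  show R w = _
  have e0 : idem R 1 = P2 hq hK ρ := by
    rw [← hR0, ← sum_idem (R := R), Finset.sum_eq_single (1 : AddChar W ℂ) (fun χ _ hχ => hnone χ hχ)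
      (by simp)]
  rw [show R w = R w * R 0 by rw [← hR, add_zero], hR0, ← e0, R_mul_idem hR, AddChar.one_apply, one_smul]

/-- The elements fixing the fixed space of the root pair. -/
def Stab : Subgroup (G₁ F q) where
  carrier := {g | mat ρ g * P2 hq hK ρ = P2 hq hK ρ}
  one_mem' := by simp [mat_one]
  mul_mem' {a b} ha hb := by
    show mat ρ (a * b) * _ = _
    rw [mat_mul, mul_assoc, show mat ρ b * P2 hq hK ρ = P2 hq hK ρ from hb]
    exact ha
  inv_mem' {a} ha := by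
    show mat ρ a⁻¹ * _ = _
    conv_lhs => rw [← show mat ρ a * P2 hq hK ρ = P2 hq hK ρ from ha]
    rw [← mul_assoc, ← mat_mul, inv_mul_cancel, mat_one, one_mul]

theorem mem_Stab {g : G₁ F q} : g ∈ Stab hq hK ρ ↔ mat ρ g * P2 hq hK ρ = P2 hq hK ρ := Iff.rfl

theorem inv_of_comm {g : G₁ F q} (h : mat ρ g * P2 hq hK ρ = P2 hq hK ρ * mat ρ g) :
    P2 hq hK ρ * mat ρ g * P2 hq hK ρ = mat ρ g * P2 hq hK ρ := by
  rw [← h, mul_assoc, P2_sq]

theorem hc_val : ∀ l : (kf hq hK)ˣ,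
    (hc hq hK 1 l 22 = l⁻¹) ∧ (hc hq hK 1 l 1 = l) ∧
    (hc hq hK 1 l 19 = l) ∧ (hc hq hK 1 l 16 = l) ∧ (hc hq hK 1 l 15 = l) ∧
    (hc hq hK l 1 17 = l) ∧ (hc hq hK l 1 20 = l) ∧ (hc hq hK l 1 21 = l) ∧
    (hc hq hK 1 l 5 = l) ∧ (hc hq hK 1 l 10 = l) ∧ (hc hq hK 1 l 11 = l) ∧
    (hc hq hK 1 l 18 = l⁻¹) ∧ (hc hq hK 1 l 13 = l⁻¹) ∧ (hc hq hK 1 l 12 = l⁻¹) := by
  have h : ∀ p : Fin MT.tab.n × ℤ, p ∈ ([(22, -1), (1, 1), (19, 1), (16, 1), (15, 1), (5, 1), (10, 1),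
      (11, 1), (18, -1), (13, -1), (12, -1)] : List (Fin MT.tab.n × ℤ)) →
      chevD4.pairing ((MT.S).simple 1).val p.1.val = p.2 := by decide +kernel
  have h' : ∀ s : Fin MT.tab.n, s ∈ ([17, 20, 21] : List (Fin MT.tab.n)) →
      chevD4.pairing ((MT.S).simple 0).val s.val + chevD4.pairing ((MT.S).simple 2).val s.val +
        chevD4.pairing ((MT.S).simple 3).val s.val = 1 := by decide +kernel
  intro l
  refine ⟨?_, ?_, ?_, ?_, ?_, ?_, ?_, ?_, ?_, ?_, ?_, ?_, ?_, ?_⟩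
  all_goals simp only [hc, _root_.one_zpow, one_mul, mul_one]
  all_goals first
    | rw [h' _ (by decide), _root_.zpow_one]
    | rw [h (22, -1) (by simp), _root_.zpow_neg_one]
    | rw [h (18, -1) (by simp), _root_.zpow_neg_one]
    | rw [h (13, -1) (by simp), _root_.zpow_neg_one]
    | rw [h (12, -1) (by simp), _root_.zpow_neg_one]
    | rw [h (1, 1) (by simp), _root_.zpow_one]
    | rw [h (19, 1) (by simp), _root_.zpow_one]
    | rw [h (16, 1) (by simp), _root_.zpow_one]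
    | rw [h (15, 1) (by simp), _root_.zpow_one]
    | rw [h (5, 1) (by simp), _root_.zpow_one]
    | rw [h (10, 1) (by simp), _root_.zpow_one]
    | rw [h (11, 1) (by simp), _root_.zpow_one]

theorem smul_val (l : kf hq hK) (w : F) : l • w = (l : F) * w := rfl

include hsmall in
theorem stab_eq_top : Stab hq hK ρ = ⊤ := by
  have T := fun {W : Type _} [AddCommGroup W] [Fintype W] [Module (kf hq hK) W] => trivial_of_small hq hK ρ hsmall (W := W)
  have h2 : ∀ x, e2 hq hK x ∈ Stab hq hK ρ := R2_P2 hq hK ρ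
  have h23 : ∀ a, e23 hq hK a ∈ Stab hq hK ρ := fun a => by
    have := h2 (a, 0)
    rwa [e2, show e14 hq hK 0 = 1 from Subtype.ext ((MT.rel (KR F)).x_zero _), mul_one] at this
  have h14 : ∀ a, e14 hq hK a ∈ Stab hq hK ρ := fun a => by
    have := h2 (0, a)
    rwa [e2, show e23 hq hK 0 = 1 from Subtype.ext ((MT.rel (KR F)).x_zero _), one_mul] at this
  have hbij1 : ∀ u : kf hq hK, Function.Bijective
      (fun x : kf hq hK × kf hq hK => (x.1 - u * x.2, x.2)) := fun u =>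
    ⟨fun x y h => by
      simp only [Prod.mk.injEq] at h
      obtain ⟨h1, h2⟩ := h
      rw [h2] at h1
      exact Prod.ext (sub_left_injective h1) h2, fun y => ⟨(y.1 + u * y.2, y.2), by simp⟩⟩
  have hbij2 : ∀ u : kf hq hK, Function.Bijective
      (fun x : kf hq hK × kf hq hK => (x.1, x.2 - u * x.1)) := fun u =>
    ⟨fun x y h => by
      simp only [Prod.mk.injEq] at h
      obtain ⟨h2, h1⟩ := h
      rw [h2] at h1
      exact Prod.ext h2 (sub_left_injective h1), fun y => ⟨(y.1, y.2 + u * y.1), by simp⟩⟩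
  have hid : ∀ {g : G₁ F q}, (∀ x, g * e2 hq hK x = e2 hq hK x * g) →
      P2 hq hK ρ * mat ρ g * P2 hq hK ρ = mat ρ g * P2 hq hK ρ := fun {g} h =>
    inv_of_comm hq hK ρ (P2_comm hq hK ρ id Function.bijective_id h)
  have s22 : ∀ u, e22 hq hK u ∈ Stab hq hK ρ := T (e22 hq hK) (e22_add hq hK)
    (fun u => inv_of_comm hq hK ρ (P2_comm hq hK ρ _ (hbij1 u) (e22_e2 hq hK u)))
    fun l => ⟨hh hq hK 1 l⁻¹, hh_e2 hq hK ρ _ _, fun w => Subtype.ext (mul_inv_eq_iff_eq_mul.1 (by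
      refine (hh_x hq hK _ _ 22 (w : F)).trans ?_
      rw [(hc_val hq hK l⁻¹).1, inv_inv]
      rfl))⟩
  have s1 : ∀ u, e1 hq hK u ∈ Stab hq hK ρ := T (e1 hq hK) (e1_add hq hK)
    (fun u => inv_of_comm hq hK ρ (P2_comm hq hK ρ _ (hbij2 u) (e1_e2 hq hK u)))
    fun l => ⟨hh hq hK 1 l, hh_e2 hq hK ρ _ _, fun w => Subtype.ext (mul_inv_eq_iff_eq_mul.1 (by
      refine (hh_x hq hK _ _ 1 (w : F)).trans ?_
      rw [(hc_val hq hK l).2.1]
      rfl))⟩
  have sb : ∀ u, eb hq hK u ∈ Stab hq hK ρ := T (eb hq hK) (eb_add hq hK)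
    (fun u => hid (eb_e2 hq hK u))
    fun l => ⟨hh hq hK 1 l, hh_e2 hq hK ρ _ _, fun w => Subtype.ext (by
      obtain ⟨-, -, c1, c2, c3, -⟩ := hc_val hq hK l
      refine (hh_three hq hK 1 l l 19 16 15 c1 c2 c3 _ _ _).trans ?_
      rw [Subgroup.coe_mul, smul_val]
      show _ = xb q _ * _
      rw [xb, mul_neg, mul_pow, mul_pow, fix hq hK (l : kf hq hK),
        fix_q2 hq (fix hq hK (l : kf hq hK))])⟩
  have sc : ∀ u, ec hq hK u ∈ Stab hq hK ρ := T (ec hq hK) (ec_add hq hK)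
    (fun u => hid (ec_e2 hq hK u))
    fun l => ⟨hh hq hK l 1, hh_e2 hq hK ρ _ _, fun w => Subtype.ext (by
      obtain ⟨-, -, -, -, -, c1, c2, c3, -⟩ := hc_val hq hK l
      refine (hh_three hq hK l 1 l 17 20 21 c1 c2 c3 _ _ _).trans ?_
      rw [Subgroup.coe_mul, smul_val]
      show _ = xc q _ * _
      rw [xc, mul_neg, mul_neg, mul_pow, mul_pow, fix hq hK (l : kf hq hK),
        fix_q2 hq (fix hq hK (l : kf hq hK))])⟩
  have sv : ∀ u, ev hq hK u ∈ Stab hq hK ρ := T (ev hq hK) (ev_add hq hK)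
    (fun u => hid (ev_e2 hq hK u))
    fun l => ⟨hh hq hK 1 l, hh_e2 hq hK ρ _ _, fun w => Subtype.ext (by
      obtain ⟨-, -, -, -, -, -, -, -, c1, c2, c3, -⟩ := hc_val hq hK l
      refine (hh_three hq hK 1 l l 5 10 11 c1 c2 c3 _ _ _).trans ?_
      rw [Subgroup.coe_mul, smul_val]
      show _ = xv q _ * _
      rw [xv, mul_pow, mul_pow, fix hq hK (l : kf hq hK), fix_q2 hq (fix hq hK (l : kf hq hK))])⟩
  have hQ : ∀ (t : F) (x : kf hq hK × kf hq hK),
      eu hq hK t * e2 hq hK x * (eu hq hK t)⁻¹ ∈ Stab hq hK ρ := by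
    intro t x
    obtain ⟨z, hz⟩ := eu_e14 hq hK t x.2
    rw [e2, ← mul_assoc, eu_e23, mul_assoc (e23 hq hK x.1), mul_assoc, hz]
    exact mul_mem (h23 _) (mul_mem (mul_mem (mul_mem (mul_mem (h14 _) (sb _)) (sc _)) (s22 _)) (h23 _))
  have su : ∀ u, eu hq hK u ∈ Stab hq hK ρ := T (eu hq hK) (eu_add hq hK)
    (fun u => by
      have key : ∀ x, R2 hq hK ρ x * (mat ρ (eu hq hK u) * P2 hq hK ρ) =
          mat ρ (eu hq hK u) * P2 hq hK ρ := fun x => by
        have h := hQ (-u) x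
        have hn : (eu hq hK (-u))⁻¹ = eu hq hK u := by
          refine inv_eq_of_mul_eq_one_right ?_
          rw [← eu_add, neg_add_cancel]
          have := eu_add hq hK 0 0
          rwa [add_zero, left_eq_mul] at this
        rw [hn] at h
        rw [mem_Stab, mat_mul, mat_mul] at h
        have hn' : mat ρ (eu hq hK u) * mat ρ (eu hq hK (-u)) = 1 := by
          rw [← mat_mul, ← hn, inv_mul_cancel, mat_one]
        calc R2 hq hK ρ x * (mat ρ (eu hq hK u) * P2 hq hK ρ) =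
            mat ρ (eu hq hK u) * mat ρ (eu hq hK (-u)) *
              (R2 hq hK ρ x * (mat ρ (eu hq hK u) * P2 hq hK ρ)) := by rw [hn', one_mul]
          _ = mat ρ (eu hq hK u) * (mat ρ (eu hq hK (-u)) * mat ρ (e2 hq hK x) *
              mat ρ (eu hq hK u) * P2 hq hK ρ) := by simp only [R2, mul_assoc]
          _ = _ := by rw [h]
      rw [mul_assoc]
      conv_lhs => arg 1; rw [P2, idem, Cx.proj]
      rw [smul_mul_assoc, Finset.sum_mul]
      simp only [AddChar.one_apply, one_smul]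
      rw [Finset.sum_congr rfl fun x _ => key x]
      rw [Finset.sum_const, Finset.card_univ, ← Nat.cast_smul_eq_nsmul ℂ, smul_smul,
        inv_mul_cancel₀ (card_ne (A := kf hq hK × kf hq hK)), one_smul])
    fun l => ⟨hh hq hK 1 l⁻¹, hh_e2 hq hK ρ _ _, fun w => Subtype.ext (by
      obtain ⟨-, -, -, -, -, -, -, -, -, -, -, c1, c2, c3⟩ := hc_val hq hK l⁻¹
      rw [inv_inv] at c1 c2 c3
      refine (hh_three hq hK 1 l⁻¹ l 18 13 12 c1 c2 c3 _ _ _).trans ?_
      rw [Subgroup.coe_mul, smul_val]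
      show _ = xu q _ * _
      rw [xu, mul_pow, mul_pow, fix hq hK (l : kf hq hK), fix_q2 hq (fix hq hK (l : kf hq hK))])⟩
  obtain ⟨n, hn, -, -, c, hc0, hcq, hc1⟩ := exists_n hq hK (F := F)
  have hle : Subgroup.closure (Set.range (xu q (F := F)) ∪ Set.range (xv q)) ≤
      (Stab hq hK ρ).map (G₁ F q).subtype := by
    refine (Subgroup.closure_le _).2 ?_
    rintro _ (⟨t, rfl⟩ | ⟨t, rfl⟩)
    · exact ⟨eu hq hK t, su t, rfl⟩
    · exact ⟨ev hq hK t, sv t, rfl⟩
  obtain ⟨n', hn', rfl⟩ := hle hn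
  refine eq_top_iff.2 fun g _ => ?_
  suffices h : G₁ F q ≤ (Stab hq hK ρ).map (G₁ F q).subtype by
    obtain ⟨g', hg', e⟩ := h g.2
    rwa [Subtype.coe_injective e] at hg'
  refine (Subgroup.closure_le _).2 ?_
  rintro _ ⟨w, hw, rfl⟩
  rcases hw with ⟨t, ht, r, hr, rfl⟩ | ⟨t, rs, hr, rfl⟩
  · simp only [List.mem_cons, List.not_mem_nil, or_false] at hr
    rcases hr with rfl | rfl
    · refine ⟨e14 hq hK ⟨t, ht⟩, h14 _, ?_⟩
      rw [show ([(d4p2, t)] : List (ℕ × F)) = [((14 : Fin MT.tab.n).val, t)] from rfl,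
        (Twisted.TypeD4.frame₀ hq hK).wv_cons]
      simp [Twisted.wv, e14]
    · refine ⟨n' * e1 hq hK ⟨c⁻¹ * t, by show (c⁻¹ * t) ^ q = c⁻¹ * t; rw [mul_pow, inv_pow, hcq, ht]⟩ *
        n'⁻¹, mul_mem (mul_mem hn' (s1 _)) (inv_mem hn'), ?_⟩
      rw [show ([(d4m2, t)] : List (ℕ × F)) = [((9 : Fin MT.tab.n).val, t)] from rfl,
        (Twisted.TypeD4.frame₀ hq hK).wv_cons]
      rw [map_mul, map_mul, map_inv]
      refine Eq.trans (hc1 (c⁻¹ * t)) ?_
      rw [← mul_assoc, mul_inv_cancel₀ hc0, one_mul]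
      simp [Twisted.wv]
  · simp only [List.mem_cons, List.not_mem_nil, or_false] at hr
    rcases hr with rfl | rfl
    · refine ⟨eu hq hK t, su t, ?_⟩
      show xu q t = _
      rw [show ([(d4p1, t), (d4p3, t ^ q), (d4p4, t ^ (q ^ 2))] : List (ℕ × F)) =
          [((18 : Fin MT.tab.n).val, t), ((13 : Fin MT.tab.n).val, t ^ q),
            ((12 : Fin MT.tab.n).val, t ^ (q ^ 2))] from rfl,
        (Twisted.TypeD4.frame₀ hq hK).wv_cons, (Twisted.TypeD4.frame₀ hq hK).wv_cons,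
        (Twisted.TypeD4.frame₀ hq hK).wv_cons]
      simp [Twisted.wv, xu, mul_assoc]
    · refine ⟨ev hq hK t, sv t, ?_⟩
      show xv q t = _
      rw [show ([(d4m1, t), (d4m3, t ^ q), (d4m4, t ^ (q ^ 2))] : List (ℕ × F)) =
          [((5 : Fin MT.tab.n).val, t), ((10 : Fin MT.tab.n).val, t ^ q),
            ((11 : Fin MT.tab.n).val, t ^ (q ^ 2))] from rfl,
        (Twisted.TypeD4.frame₀ hq hK).wv_cons, (Twisted.TypeD4.frame₀ hq hK).wv_cons,
        (Twisted.TypeD4.frame₀ hq hK).wv_cons]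
      simp [Twisted.wv, xv, mul_assoc]

end Cfsg.Agent.CrossChar56.D4Deg
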