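import Cfsg.Agent.CrossChar56.D4Deg.Elems
import Mathlib.FieldTheory.ChevalleyWarning

/-!
A nontrivial zero of a twisted trilinear form in two variables (helper56).
-/

set_option autoImplicit false

namespace Cfsg.Agent.CrossChar56.D4Deg

open MvPolynomial

variable {F : Type*} [Field F] [Fintype F] {q : ℕ} (hq : IsPrimePow q) (hK : Fintype.card F = q ^ 3)

include hq hK

theorem Tr_q (x : F) : Tr q x ^ q = Tr q x := by
  simp only [Tr]
  rw [add_q hq hK, add_q hq hK, qq hq hK, q2q hq hK]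
  ring

theorem Nm_q (x : F) : Nm q x ^ q = Nm q x := by
  simp only [Nm]
  rw [mul_pow, mul_pow, qq hq hK, q2q hq hK]
  ring

theorem Tr_add (x y : F) : Tr q (x + y) = Tr q x + Tr q y := by
  simp only [Tr]
  rw [add_q hq hK, add_q2 hq hK]
  ring

theorem Tr_smul {a : F} (ha : a ^ q = a) (x : F) : Tr q (a * x) = a * Tr q x := by
  simp only [Tr]
  rw [mul_pow, mul_pow, ha, fix_q2 hq ha]
  ring

theorem exists_Tr_eq_one : ∃ x : F, Tr q x = 1 := by
  classical
  obtain ⟨u, hu⟩ : ∃ u : F, Tr q u ≠ 0 := by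
    by_contra h
    push Not at h
    let p : Polynomial F := Polynomial.X + Polynomial.X ^ q + Polynomial.X ^ q ^ 2
    have hlt : q < q ^ 2 := by
      have := hq.two_le
      nlinarith
    have h1 : 1 < q := hq.one_lt
    have hc : p.coeff 1 = 1 := by
      simp [p, Polynomial.coeff_X_pow, Nat.ne_of_lt h1, Nat.ne_of_lt (h1.trans hlt)]
    have hp : p ≠ 0 := fun h0 => by simp [h0] at hc
    have hd : p.natDegree ≤ q ^ 2 :=
      Polynomial.natDegree_add_le_of_degree_le (Polynomial.natDegree_add_le_of_degree_le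
        (by rw [Polynomial.natDegree_X]; omega) (by rw [Polynomial.natDegree_X_pow]; omega))
        (by rw [Polynomial.natDegree_X_pow])
    have h3 := Polynomial.card_le_degree_of_subset_roots (p := p) (Z := Finset.univ) (fun x _ => by
      rw [Polynomial.mem_roots hp]
      simpa [p, Polynomial.IsRoot, Tr] using h x)
    rw [Finset.card_univ, hK] at h3
    have h4 : q ^ 2 < q ^ 3 := by
      have := hq.two_le
      exact Nat.pow_lt_pow_right h1 (by omega)
    omega
  refine ⟨(Tr q u)⁻¹ * u, ?_⟩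
  rw [Tr_smul hq hK (by rw [inv_pow, Tr_q hq hK]), inv_mul_cancel₀ hu]

theorem exists_zero {A D : F} (β γ : F) (hA : A ^ q = A) (hD : D ^ q = D) (hD0 : D ≠ 0) :
    ∃ t : F, A + Tr q (β * t) + Tr q (γ * (t ^ q * t ^ q ^ 2)) + D * Nm q t = 0 := by
  classical
  by_contra hno
  push Not at hno
  set m : Fin 2 → Fin 2 → Fin 2 → F → MvPolynomial (Fin 2) F :=
    fun i j l a => C a * (MvPolynomial.X i * MvPolynomial.X j ^ q * MvPolynomial.X l ^ q ^ 2) with hm
  set p : MvPolynomial (Fin 2) F :=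
    m 0 0 0 A + m 1 0 0 β + m 0 1 0 (β ^ q) + m 0 0 1 (β ^ q ^ 2) + m 0 1 1 γ + m 1 0 1 (γ ^ q) +
      m 1 1 0 (γ ^ q ^ 2) + m 1 1 1 D with hp
  have hmd : ∀ i j l a, (m i j l a).totalDegree ≤ 1 + q + q ^ 2 := fun i j l a => by
    simp only [hm]
    refine (totalDegree_mul _ _).trans ?_
    rw [totalDegree_C, zero_add]
    refine (totalDegree_mul _ _).trans (Nat.add_le_add ((totalDegree_mul _ _).trans ?_) ?_)
    · exact Nat.add_le_add (totalDegree_X i).le (totalDegree_X_pow j q).le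
    · exact (totalDegree_X_pow l _).le
  have hpd : p.totalDegree ≤ 1 + q + q ^ 2 := by
    have step : ∀ {a b : MvPolynomial (Fin 2) F}, a.totalDegree ≤ 1 + q + q ^ 2 →
        b.totalDegree ≤ 1 + q + q ^ 2 → (a + b).totalDegree ≤ 1 + q + q ^ 2 := fun ha hb =>
      (totalDegree_add _ _).trans (max_le ha hb)
    exact step (step (step (step (step (step (step (hmd ..) (hmd ..)) (hmd ..)) (hmd ..)) (hmd ..))
      (hmd ..)) (hmd ..)) (hmd ..)
  have h2 := hq.two_le
  have hN : (1 + q + q ^ 2) * (q - 1) = q ^ 3 - 1 := by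
    zify [Nat.one_le_pow 3 q hq.pos, show 1 ≤ q by omega]
    ring
  have h8 : 2 ^ 3 ≤ q ^ 3 := Nat.pow_le_pow_left h2 3
  have hdeg : (p ^ (q - 1)).totalDegree < (Fintype.card F - 1) * Fintype.card (Fin 2) := by
    refine lt_of_le_of_lt ((totalDegree_pow _ _).trans (Nat.mul_le_mul_left _ hpd)) ?_
    rw [mul_comm, hN, hK, Fintype.card_fin]
    omega
  have hsum := MvPolynomial.sum_eval_eq_zero (p ^ (q - 1)) hdeg
  set f : F → F := fun t => A + Tr q (β * t) + Tr q (γ * (t ^ q * t ^ q ^ 2)) + D * Nm q t with hf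
  have hev : ∀ v : Fin 2 → F, v ≠ 0 → eval v p ≠ 0 ∧ eval v p ^ q = eval v p := by
    intro v hv
    by_cases h0 : v 0 = 0
    · have h1 : v 1 ≠ 0 := fun h1 => hv (funext fun i => by fin_cases i <;> assumption)
      have e : eval v p = D * Nm q (v 1) := by
        simp [hp, hm, h0, Nm, zero_pow hq.pos.ne', zero_pow (pow_pos hq.pos 2).ne']
      rw [e, mul_pow, hD, Nm_q hq hK]
      exact ⟨mul_ne_zero hD0 (mul_ne_zero (mul_ne_zero h1 (pow_ne_zero _ h1)) (pow_ne_zero _ h1)), rfl⟩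
    · set t := v 1 / v 0 with ht
      have hv1 : v 1 = v 0 * t := by rw [ht]; field_simp
      have e : eval v p = Nm q (v 0) * f t := by
        simp only [hp, hm, map_add, map_mul, map_pow, eval_C, eval_X, hf, hv1, Nm, Tr, mul_pow,
          qq hq hK, q2q hq hK]
        have e1 : (t ^ q) ^ q ^ 2 = t := by
          rw [← pow_mul, show q * q ^ 2 = q ^ 3 by ring, q3 hq hK]
        have e2 : (t ^ q ^ 2) ^ q ^ 2 = t ^ q := by
          rw [← pow_mul, show q ^ 2 * q ^ 2 = q ^ 3 * q by ring, pow_mul t (q ^ 3), q3 hq hK]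
        rw [e1, e2]
        ring
      have hfq : f t ^ q = f t := by
        simp only [hf]
        rw [add_q hq hK, add_q hq hK, add_q hq hK, mul_pow, hA, hD, Tr_q hq hK, Tr_q hq hK, Nm_q hq hK]
      rw [e, mul_pow, Nm_q hq hK, hfq]
      exact ⟨mul_ne_zero (mul_ne_zero (mul_ne_zero h0 (pow_ne_zero _ h0)) (pow_ne_zero _ h0)) (hno t), rfl⟩
  have hone : ∀ v : Fin 2 → F, v ≠ 0 → eval v (p ^ (q - 1)) = 1 := fun v hv => by
    obtain ⟨hne, hfix⟩ := hev v hv
    rw [map_pow]
    refine mul_right_cancel₀ hne ?_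
    rw [← pow_succ, Nat.sub_add_cancel (by omega : 1 ≤ q), hfix, one_mul]
  have h00 : eval (0 : Fin 2 → F) (p ^ (q - 1)) = 0 := by
    rw [map_pow, show eval (0 : Fin 2 → F) p = 0 by
      simp [hp, hm, zero_pow hq.pos.ne', zero_pow (pow_pos hq.pos 2).ne'],
      zero_pow (by omega)]
  rw [← Finset.add_sum_erase _ _ (Finset.mem_univ (0 : Fin 2 → F)), h00, zero_add,
    Finset.sum_congr rfl fun v hv => hone v (Finset.mem_erase.1 hv).1, Finset.sum_const,
    Finset.card_erase_of_mem (Finset.mem_univ _), Finset.card_univ, Fintype.card_fun, hK,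
    Fintype.card_fin, nsmul_one, Nat.cast_sub (Nat.one_le_pow _ _ (pow_pos hq.pos 3))] at hsum
  have hz : ((q ^ 3 : ℕ) : F) = 0 := hK ▸ Nat.cast_card_eq_zero F
  rw [Nat.cast_pow, hz, zero_pow two_ne_zero, Nat.cast_one, zero_sub] at hsum
  exact one_ne_zero (neg_eq_zero.1 hsum)

end Cfsg.Agent.CrossChar56.D4Deg
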